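import Cfsg.Agent.H644.Pairs
import Cfsg.Agent.Blocks.RelTraceForm

/-!
# Relative traces over the residue field and defect groups

`tr D H a` is the relative trace from `D` to `H` (`D ≤ H ≤ G`) of a `D`-invariant element of `K[G]`:
the sum of the conjugates of `a` over the cosets of `D` in `H`.

* `isInv_tr`, `mul_tr`, `tr_mul`, `tr_trans`;
* `exists_conj_le_of_tr`: if `(tr D ⊤ a)` has a nonzero coefficient at `y` and the `p`-group `S`
  centralizes `y`, then `S` is contained in a conjugate of `D`;
* `br_tr` : `Br_P (Tr_P^G a) = Br_P (Tr_P^N a)`, `N = N_G(P)`;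
* `exists_tr_of_isDefectGroup` : the idempotent of a block with defect group `D` is a relative
  trace from `D`;
* `isDefectGroup_of_tr`: if the idempotent of `B` is a relative trace from the `p`-group `P` and has
  nonzero image under the Brauer map at `P`, then `P` is a defect group of `B`;
* `br_idem_ne_zero_iff`: `Br_P (idem B) ≠ 0` iff `P` is contained in a conjugate of `D`.
-/

set_option autoImplicit false
set_option linter.unusedSectionVars false

open Cfsg

namespace Cfsg.Agent.H644

open Cfsg.Agent.Blocks.Local Cfsg.Agent.Blocks.MinMax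
open Cfsg.Agent.Blocks.Basic (isPBlock_nonempty isDefectGroup_iff isPGroup_of_isSylowCentralizer
  le_centralizer_of_isSylowCentralizer isDefectGroup_conj isPGroup_of_isDefectGroup
  map_conj_map_conj map_conj_one)

section Alg

variable {K : Type*} [Field K] {G : Type*} [Group G] [Finite G]

/-- A representative of a left coset. -/
noncomputable def qout {D : Subgroup G} (q : G ⧸ D) : G := Quotient.out q

theorem mk_qout {D : Subgroup G} (q : G ⧸ D) : ((qout q : G) : G ⧸ D) = q :=
  Quotient.out_eq q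

theorem inv_qout_mul_mem {D : Subgroup G} {q : G ⧸ D} {t : G} (h : (t : G ⧸ D) = q) :
    (qout q)⁻¹ * t ∈ D := QuotientGroup.eq.1 (by rw [mk_qout, h])

/-- The conjugate of a `D`-invariant element only depends on the coset. -/
theorem cj_qout {D : Subgroup G} {a : MonoidAlgebra K G} (ha : IsInv D a) {q : G ⧸ D} {t : G}
    (h : (t : G ⧸ D) = q) : cj (qout q) a = cj t a := by
  have h1 : t = qout q * ((qout q)⁻¹ * t) := by group
  rw [h1, cj_mul_apply, isInv_iff_cj.1 ha _ (inv_qout_mul_mem h)]

/-- The cosets of `D` contained in `H`. -/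
def inCos (D H : Subgroup G) (q : G ⧸ D) : Prop := qout q ∈ H

theorem inCos_iff {D H : Subgroup G} (hDH : D ≤ H) {q : G ⧸ D} {t : G}
    (h : (t : G ⧸ D) = q) : inCos D H q ↔ t ∈ H := by
  unfold inCos
  have h1 := hDH (inv_qout_mul_mem h)
  constructor
  · intro h2
    have := H.mul_mem h2 h1
    simpa using this
  · intro h2
    have := H.mul_mem h2 (H.inv_mem h1)
    simpa using this

open Classical in
/-- The relative trace. -/
noncomputable def tr (D H : Subgroup G) (a : MonoidAlgebra K G) : MonoidAlgebra K G :=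
  letI := Fintype.ofFinite (G ⧸ D)
  ∑ q : G ⧸ D, if inCos D H q then cj (qout q) a else 0

open Classical in
theorem tr_def (D H : Subgroup G) [inst : Fintype (G ⧸ D)] (a : MonoidAlgebra K G) :
    tr D H a = ∑ q : G ⧸ D, if inCos D H q then cj (qout q) a else 0 := by
  have : inst = Fintype.ofFinite (G ⧸ D) := Subsingleton.elim _ _
  subst this
  rfl

theorem coeff_cj_qout (D : Subgroup G) (q : G ⧸ D) (a : MonoidAlgebra K G) (y : G) :
    (cj (qout q) a).coeff y = a.coeff ((qout q)⁻¹ * y * qout q) := coeff_cj _ _ _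

/-- Left multiplication of cosets. -/
theorem smul_mk (D : Subgroup G) (x t : G) : x • (t : G ⧸ D) = ((x * t : G) : G ⧸ D) := rfl

theorem cj_sum {ι : Type*} (s : Finset ι) (f : ι → MonoidAlgebra K G) (x : G) :
    cj x (∑ i ∈ s, f i) = ∑ i ∈ s, cj x (f i) := map_sum (cj x) f s

/-- The relative trace is `H`-invariant. -/
theorem isInv_tr {D H : Subgroup G} (hDH : D ≤ H) {a : MonoidAlgebra K G} (ha : IsInv D a) :
    IsInv H (tr D H a) := by
  classical
  have := Fintype.ofFinite (G ⧸ D)
  rw [isInv_iff_cj]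
  intro x hx
  rw [tr_def, cj_sum, ← Equiv.sum_comp (MulAction.toPerm x)
    (fun q : G ⧸ D => if inCos D H q then cj (qout q) a else 0)]
  refine Finset.sum_congr rfl fun q _ => ?_
  have h1 : ((x * qout q : G) : G ⧸ D) = x • q := by
    rw [← smul_mk, mk_qout]
  have h2 : inCos D H (MulAction.toPerm x q) ↔ inCos D H q := by
    rw [MulAction.toPerm_apply, inCos_iff hDH h1, inCos_iff hDH (mk_qout q)]
    exact H.mul_mem_cancel_left hx
  by_cases h3 : inCos D H q
  · rw [if_pos h3, if_pos (h2.2 h3), MulAction.toPerm_apply, cj_qout ha h1, cj_mul_apply]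
  · rw [if_neg h3, if_neg (fun h => h3 (h2.1 h)), map_zero]

theorem tr_add (D H : Subgroup G) (a b : MonoidAlgebra K G) :
    tr D H (a + b) = tr D H a + tr D H b := by
  classical
  have := Fintype.ofFinite (G ⧸ D)
  rw [tr_def, tr_def, tr_def, ← Finset.sum_add_distrib]
  refine Finset.sum_congr rfl fun q _ => ?_
  split_ifs
  · rw [map_add]
  · rw [add_zero]

theorem tr_smul (D H : Subgroup G) (c : K) (a : MonoidAlgebra K G) :
    tr D H (c • a) = c • tr D H a := by
  classical
  have := Fintype.ofFinite (G ⧸ D)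
  rw [tr_def, tr_def, Finset.smul_sum]
  refine Finset.sum_congr rfl fun q _ => ?_
  split_ifs
  · rw [map_smul]
  · rw [smul_zero]

/-- Projection formula (left). -/
theorem mul_tr {D H : Subgroup G} {x : MonoidAlgebra K G} (hx : IsInv H x)
    (a : MonoidAlgebra K G) : x * tr D H a = tr D H (x * a) := by
  classical
  have := Fintype.ofFinite (G ⧸ D)
  rw [tr_def, tr_def, Finset.mul_sum]
  refine Finset.sum_congr rfl fun q _ => ?_
  by_cases h : inCos D H q
  · rw [if_pos h, if_pos h, map_mul, isInv_iff_cj.1 hx _ h]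
  · rw [if_neg h, if_neg h, mul_zero]

/-- Projection formula (right). -/
theorem tr_mul {D H : Subgroup G} {x : MonoidAlgebra K G} (hx : IsInv H x)
    (a : MonoidAlgebra K G) : tr D H a * x = tr D H (a * x) := by
  classical
  have := Fintype.ofFinite (G ⧸ D)
  rw [tr_def, tr_def, Finset.sum_mul]
  refine Finset.sum_congr rfl fun q _ => ?_
  by_cases h : inCos D H q
  · rw [if_pos h, if_pos h, map_mul, isInv_iff_cj.1 hx _ h]
  · rw [if_neg h, if_neg h, zero_mul]

/-- If the coefficient of `Tr_D^G a` at `y` is nonzero and `S` is a `p`-group centralizing `y`, then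
`S` is contained in a conjugate of `D`. -/
theorem exists_conj_le_of_tr {p : ℕ} [CharP K p] [Fact p.Prime] {D H : Subgroup G}
    (hDH : D ≤ H) {a : MonoidAlgebra K G}
    (ha : IsInv D a) {y : G} (hy : (tr D H a).coeff y ≠ 0) {S : Subgroup G} (hS : IsPGroup p S)
    (hSH : S ≤ H) (hSy : y ∈ Subgroup.centralizer (S : Set G)) :
    ∃ t ∈ H, S.map (MulAut.conj t⁻¹).toMonoidHom ≤ D ∧ a.coeff (t⁻¹ * y * t) ≠ 0 := by
  classical
  have := Fintype.ofFinite (G ⧸ D)
  by_contra hcon
  push Not at hcon
  apply hy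
  have hcoeff : ∀ z : G, (tr D H a).coeff z = ∑ q : G ⧸ D,
      if inCos D H q then (cj (qout q) a).coeff z else 0 := by
    intro z
    rw [tr_def, MonoidAlgebra.coeff_sum, Finsupp.finsetSum_apply]
    refine Finset.sum_congr rfl fun q _ => ?_
    split_ifs
    · rfl
    · rfl
  rw [hcoeff]
  obtain ⟨b, hb⟩ := Cfsg.Agent.Blocks.OrbitSum.sum_eq_sum_fixed_add_smul hS
    (fun q : G ⧸ D => if inCos D H q then (cj (qout q) a).coeff y else 0) (by
      intro u q
      have h1 : (((u : G) * qout q : G) : G ⧸ D) = u • q := by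
        change _ = (u : G) • q
        rw [← smul_mk, mk_qout]
      have h2 : inCos D H (u • q) ↔ inCos D H q := by
        rw [inCos_iff hDH h1, inCos_iff hDH (mk_qout q)]
        exact H.mul_mem_cancel_left (hSH u.2)
      by_cases h3 : inCos D H q
      · rw [if_pos h3, if_pos (h2.2 h3), cj_qout ha h1, cj_mul_apply, coeff_cj]
        congr 1
        have h4 := (Subgroup.mem_centralizer_iff.1 hSy) u u.2
        rw [mul_assoc, ← h4, inv_mul_cancel_left]
      · rw [if_neg h3, if_neg (fun h => h3 (h2.1 h))])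
  rw [hb, nsmul_eq_mul, CharP.cast_eq_zero, zero_mul, add_zero]
  refine Finset.sum_eq_zero fun q hq => ?_
  have hq' := (Finset.mem_filter.1 hq).2
  by_cases h3 : inCos D H q
  · rw [if_pos h3, coeff_cj]
    refine hcon (qout q) h3 ?_
    rintro _ ⟨s, hs, rfl⟩
    have h5 : (s : G) • q = q := hq' ⟨s, hs⟩
    have h6 : ((s * qout q : G) : G ⧸ D) = ((qout q : G) : G ⧸ D) := by
      rw [← smul_mk, mk_qout]
      exact h5
    have h9 := QuotientGroup.eq.1 h6.symm
    change (MulAut.conj (qout q)⁻¹) s ∈ D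
    rw [MulAut.conj_apply, inv_inv]
    convert h9 using 1
    group
  · rw [if_neg h3]

theorem coeff_tr (D H : Subgroup G) [Fintype (G ⧸ D)] [DecidablePred (inCos D H)]
    (a : MonoidAlgebra K G) (y : G) : (tr D H a).coeff y = ∑ q : G ⧸ D,
      if inCos D H q then (cj (qout q) a).coeff y else 0 := by
  rw [tr_def, MonoidAlgebra.coeff_sum, Finsupp.finsetSum_apply]
  refine Finset.sum_congr rfl fun q _ => ?_
  split_ifs
  · rfl
  · rfl

/-- A finite subgroup `P` with `t⁻¹ P t ≤ P` is normalized by `t`. -/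
theorem mem_normalizer_of_conj_le {P : Subgroup G} {t : G}
    (h : ∀ u ∈ P, t⁻¹ * u * t ∈ P) : t ∈ Subgroup.normalizer (P : Set G) := by
  have h1 : P.map (MulAut.conj t⁻¹).toMonoidHom = P := by
    refine Subgroup.eq_of_le_of_card_ge ?_ ?_
    · rintro _ ⟨u, hu, rfl⟩
      change (MulAut.conj t⁻¹) u ∈ P
      rw [MulAut.conj_apply, inv_inv]
      exact h u hu
    · rw [Subgroup.card_map_of_injective (MulAut.conj t⁻¹).injective]
  rw [Subgroup.mem_normalizer_iff]
  intro g
  constructor
  · intro hg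
    rw [← h1] at hg
    obtain ⟨u, hu, rfl⟩ := hg
    change t * ((MulAut.conj t⁻¹) u) * t⁻¹ ∈ P
    rw [MulAut.conj_apply, inv_inv]
    have : t * (t⁻¹ * u * t) * t⁻¹ = u := by group
    rw [this]
    exact hu
  · intro hg
    have := h _ hg
    simpa [mul_assoc] using this

/-- `Br_P (Tr_P^G a) = Br_P (Tr_P^{N_G(P)} a)` for `a` invariant under the `p`-group `P`. More
generally with `H ≥ P` and `H ∩ N_G(P)` in place of `G` and `N_G(P)`. -/
theorem br_tr {p : ℕ} [CharP K p] [Fact p.Prime] {P H : Subgroup G} (hPH : P ≤ H)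
    (hP : IsPGroup p P) {a : MonoidAlgebra K G} (ha : IsInv P a) :
    br P (tr P H a) = br P (tr P (H ⊓ Subgroup.normalizer (P : Set G)) a) := by
  classical
  have := Fintype.ofFinite (G ⧸ P)
  have hPN : P ≤ H ⊓ Subgroup.normalizer (P : Set G) := le_inf hPH Subgroup.le_normalizer
  refine ext_coeff fun y => ?_
  rw [coeff_br, coeff_br, coeff_tr, coeff_tr]
  obtain ⟨b, hb⟩ := Cfsg.Agent.Blocks.OrbitSum.sum_eq_sum_fixed_add_smul hP
    (fun q : G ⧸ P => if inCos P H q then (cj (qout q) a).coeff (y : G) else 0) (by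
      intro u q
      have h1 : (((u : G) * qout q : G) : G ⧸ P) = u • q := by
        change _ = (u : G) • q
        rw [← smul_mk, mk_qout]
      have h2 : inCos P H (u • q) ↔ inCos P H q := by
        rw [inCos_iff hPH h1, inCos_iff hPH (mk_qout q)]
        exact H.mul_mem_cancel_left (hPH u.2)
      by_cases h3 : inCos P H q
      · rw [if_pos h3, if_pos (h2.2 h3), cj_qout ha h1, cj_mul_apply, coeff_cj]
        congr 1
        have h4 := (Subgroup.mem_centralizer_iff.1 y.2) u u.2
        rw [mul_assoc, ← h4, inv_mul_cancel_left]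
      · rw [if_neg h3, if_neg (fun h => h3 (h2.1 h))])
  rw [hb, nsmul_eq_mul, CharP.cast_eq_zero, zero_mul, add_zero, Finset.sum_filter]
  refine Finset.sum_congr rfl fun q _ => ?_
  have hiff : q ∈ MulAction.fixedPoints P (G ⧸ P) ↔ qout q ∈ Subgroup.normalizer (P : Set G) := by
    constructor
    · intro hq
      refine mem_normalizer_of_conj_le fun u hu => ?_
      have h5 : (u : G) • q = q := hq ⟨u, hu⟩
      have h6 : ((u * qout q : G) : G ⧸ P) = ((qout q : G) : G ⧸ P) := by
        rw [← smul_mk, mk_qout]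
        exact h5
      have h9 := QuotientGroup.eq.1 h6.symm
      rwa [← mul_assoc] at h9
    · intro hq u
      change (u : G) • q = q
      conv_lhs => rw [← mk_qout q]
      conv_rhs => rw [← mk_qout q]
      rw [smul_mk]
      refine (QuotientGroup.eq.2 ?_).symm
      rw [← mul_assoc]
      exact (Subgroup.mem_normalizer_iff''.1 hq u).1 u.2
  have hiff2 : inCos P (H ⊓ Subgroup.normalizer (P : Set G)) q ↔
      inCos P H q ∧ q ∈ MulAction.fixedPoints P (G ⧸ P) := by
    rw [hiff]
    unfold inCos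
    exact Subgroup.mem_inf
  by_cases h1 : inCos P H q
  · by_cases h2 : q ∈ MulAction.fixedPoints P (G ⧸ P)
    · rw [if_pos h2, if_pos h1, if_pos (hiff2.2 ⟨h1, h2⟩)]
    · rw [if_neg h2, if_neg (fun h => h2 (hiff2.1 h).2)]
  · rw [if_neg (fun h => h1 (hiff2.1 h).1), if_neg h1]
    simp

theorem br_tr_top {p : ℕ} [CharP K p] [Fact p.Prime] {P : Subgroup G}
    (hP : IsPGroup p P) {a : MonoidAlgebra K G} (ha : IsInv P a) :
    br P (tr P ⊤ a) = br P (tr P (Subgroup.normalizer (P : Set G)) a) := by
  rw [br_tr le_top hP ha, top_inf_eq]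

end Alg

section Block

variable {p : ℕ} {M : Ideal AlgInt} [M.IsPrime] {G : Type*} [Group G] [Finite G]

/-- The idempotent of a block with defect group `D` is a relative trace from `D`. -/
theorem exists_tr_of_isDefectGroup (hM : IsPModular p M) {B : Set (IrrCharacter G)}
    (hB : IsPBlock M B) {D : Subgroup G} (hD : IsDefectGroup p M B D) :
    ∃ a : MonoidAlgebra (ResField M) G, IsInv D a ∧ idem M B = tr D ⊤ a := by
  classical
  have : Fact p.Prime := ⟨hM.1⟩
  have := Fintype.ofFinite G
  have := Fintype.ofFinite (G ⧸ D)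
  obtain ⟨a, haR, ha, hBa⟩ := Cfsg.Agent.Blocks.RelTraceForm.exists_relTrace_of_isDefectGroup
    hM hB hD
  refine ⟨toK M a, fun u hu g => by rw [coeff_toK, coeff_toK, ha u hu], ext_coeff fun y => ?_⟩
  rw [coeff_idem, hBa, Cfsg.Agent.Blocks.RelTraceForm.relTrace_eq_sum_quotient D ha,
    redC_sum (fun q _ => haR _), coeff_tr]
  refine Finset.sum_congr rfl fun q _ => ?_
  rw [if_pos (show inCos D ⊤ q from Subgroup.mem_top _), coeff_cj_qout, coeff_toK]
  rfl

/-- If the idempotent of `B` is a relative trace from `E`, then every defect group of `B` is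
contained in a conjugate of `E`. -/
theorem exists_conj_le_of_idem_eq_tr (hM : IsPModular p M) {B : Set (IrrCharacter G)}
    {D : Subgroup G} (hD : IsDefectGroup p M B D) {E : Subgroup G}
    {a : MonoidAlgebra (ResField M) G} (ha : IsInv E a) (hB : idem M B = tr E ⊤ a) :
    ∃ t : G, D.map (MulAut.conj t).toMonoidHom ≤ E := by
  have : Fact p.Prime := ⟨hM.1⟩
  have := charP_resField hM
  obtain ⟨g, hg, hDg⟩ := isDefectGroup_iff.1 hD
  have h1 : (tr E ⊤ a).coeff g ≠ 0 := by
    rw [← hB, coeff_idem]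
    exact fun h => hg.2.1 ((redC_eq_zero_iff hg.1).1 h)
  obtain ⟨t, -, ht, -⟩ := exists_conj_le_of_tr (p := p) le_top ha h1
    (isPGroup_of_isSylowCentralizer hDg) le_top (by
      rw [Subgroup.mem_centralizer_iff]
      intro u hu
      exact Subgroup.mem_centralizer_singleton_iff.1 (le_centralizer_of_isSylowCentralizer hDg hu))
  exact ⟨t⁻¹, ht⟩

/-- If the Brauer image at `P` of the idempotent of `B` is nonzero and the idempotent is a relative
trace from `D`, then `P` is contained in a conjugate of `D`. -/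
theorem exists_conj_le_of_br_ne_zero (hM : IsPModular p M) {P D : Subgroup G}
    (hP : IsPGroup p P) {x a : MonoidAlgebra (ResField M) G} (ha : IsInv D a)
    (hx : x = tr D ⊤ a) (hbr : br P x ≠ 0) :
    ∃ t : G, P.map (MulAut.conj t).toMonoidHom ≤ D := by
  have : Fact p.Prime := ⟨hM.1⟩
  have := charP_resField hM
  obtain ⟨y, hy⟩ : ∃ y : Subgroup.centralizer (P : Set G), (br P x).coeff y ≠ 0 := by
    by_contra hcon
    push Not at hcon
    exact hbr (ext_coeff fun y => by rw [hcon y, MonoidAlgebra.coeff_zero, Finsupp.zero_apply])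
  rw [coeff_br, hx] at hy
  obtain ⟨t, -, ht, -⟩ := exists_conj_le_of_tr (p := p) le_top ha hy hP le_top y.2
  exact ⟨t⁻¹, ht⟩

/-- The Brauer image of the idempotent at a defect group is nonzero. -/
theorem br_idem_ne_zero_of_isDefectGroup {B : Set (IrrCharacter G)}
    {D : Subgroup G} (hD : IsDefectGroup p M B D) : br D (idem M B) ≠ 0 := by
  obtain ⟨g, hg, hDg⟩ := isDefectGroup_iff.1 hD
  intro h
  have hgD : g ∈ Subgroup.centralizer (D : Set G) := by
    rw [Subgroup.mem_centralizer_iff]
    intro u hu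
    exact Subgroup.mem_centralizer_singleton_iff.1 (le_centralizer_of_isSylowCentralizer hDg hu)
  have h1 : (br D (idem M B)).coeff ⟨g, hgD⟩ = 0 := by
    rw [h, MonoidAlgebra.coeff_zero, Finsupp.zero_apply]
  rw [coeff_br, coeff_idem] at h1
  exact hg.2.1 ((redC_eq_zero_iff hg.1).1 h1)

/-- Every block has a defect group. -/
theorem exists_isDefectGroup (hM : IsPModular p M) {B : Set (IrrCharacter G)}
    (hB : IsPBlock M B) : ∃ D : Subgroup G, IsDefectGroup p M B D := by
  have : Fact p.Prime := ⟨hM.1⟩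
  obtain ⟨g, hg⟩ : ∃ g : G, IsDefectClass M B g := by
    have := Fintype.ofFinite G
    obtain ⟨χ, hχ⟩ := isPBlock_nonempty hB
    -- the central character of the idempotent is one
    have hU := isUnion_of_isPBlock hB
    have h1 := lam_idem_of_mem hM hU hχ
    have := Fintype.ofFinite (ConjClasses G)
    rw [lam_apply] at h1
    obtain ⟨c, -, hc⟩ := Finset.exists_ne_zero_of_sum_ne_zero (h1 ▸ one_ne_zero)
    have hR := memLocalRing_blockCoeff hM hU (crep c)
    refine ⟨crep c, Cfsg.Agent.Blocks.Basic.isDefectClass_of_mem hB hχ hR ?_ ?_⟩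
    · intro h
      apply left_ne_zero_of_mul hc
      rw [coeff_idem]
      exact (redC_eq_zero_iff hR).2 h
    · intro h
      apply right_ne_zero_of_mul hc
      exact (redC_eq_zero_iff (memLocalRing_of_memLocalIdeal h)).2 h
  obtain ⟨D, hD, -⟩ := Cfsg.Agent.Blocks.Basic.exists_isSylowCentralizer (p := p) (g := g)
    (Q := ⊥) IsPGroup.of_bot bot_le
  exact ⟨D, g, hg, hD⟩

/-- Two subgroups each contained in a conjugate of the other are conjugate. -/
theorem exists_conj_eq {D P : Subgroup G} {s t : G} (h1 : D.map (MulAut.conj s).toMonoidHom ≤ P)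
    (h2 : P.map (MulAut.conj t).toMonoidHom ≤ D) : D.map (MulAut.conj s).toMonoidHom = P := by
  refine Subgroup.eq_of_le_of_card_ge h1 ?_
  have h3 := Subgroup.card_le_of_le h2
  rw [Subgroup.card_map_of_injective (MulAut.conj t).injective] at h3
  rw [Subgroup.card_map_of_injective (MulAut.conj s).injective]
  exact h3

/-- **Criterion**: if the idempotent of `B` is a relative trace from the `p`-group `P` and its Brauer
image at `P` is nonzero, then `P` is a defect group of `B`. -/
theorem isDefectGroup_of_tr (hM : IsPModular p M) {B : Set (IrrCharacter G)}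
    (hB : IsPBlock M B) {P : Subgroup G} (hP : IsPGroup p P)
    {a : MonoidAlgebra (ResField M) G} (ha : IsInv P a) (hBa : idem M B = tr P ⊤ a)
    (hbr : br P (idem M B) ≠ 0) : IsDefectGroup p M B P := by
  obtain ⟨D, hD⟩ := exists_isDefectGroup hM hB
  obtain ⟨s, hs⟩ := exists_conj_le_of_idem_eq_tr hM hD ha hBa
  obtain ⟨a', ha', hBa'⟩ := exists_tr_of_isDefectGroup hM hB hD
  obtain ⟨t, ht⟩ := exists_conj_le_of_br_ne_zero hM hP ha' hBa' hbr
  rw [← exists_conj_eq hs ht]
  exact isDefectGroup_conj hD s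

/-- Defect groups are conjugate. -/
theorem exists_conj_of_isDefectGroup (hM : IsPModular p M) {B : Set (IrrCharacter G)}
    (hB : IsPBlock M B) {D E : Subgroup G} (hD : IsDefectGroup p M B D)
    (hE : IsDefectGroup p M B E) : ∃ t : G, D.map (MulAut.conj t).toMonoidHom = E := by
  obtain ⟨a, ha, hBa⟩ := exists_tr_of_isDefectGroup hM hB hD
  obtain ⟨b, hb, hBb⟩ := exists_tr_of_isDefectGroup hM hB hE
  obtain ⟨s, hs⟩ := exists_conj_le_of_idem_eq_tr hM hD hb hBb
  obtain ⟨t, ht⟩ := exists_conj_le_of_idem_eq_tr hM hE ha hBa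
  exact ⟨s, exists_conj_eq hs ht⟩

/-- If `P` is contained in a defect group of `B` then the Brauer image at `P` is nonzero. -/
theorem br_idem_ne_zero_of_le {B : Set (IrrCharacter G)}
    {P D : Subgroup G} (hD : IsDefectGroup p M B D) (hPD : P ≤ D) : br P (idem M B) ≠ 0 := by
  intro h
  apply br_idem_ne_zero_of_isDefectGroup hD
  rw [← br_emb_br hPD, h, map_zero, map_zero]

/-- `Br_P (idem B) ≠ 0` iff `P` is contained in some defect group of `B`. -/
theorem br_idem_ne_zero_iff (hM : IsPModular p M) {B : Set (IrrCharacter G)}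
    (hB : IsPBlock M B) {P : Subgroup G} (hP : IsPGroup p P) :
    br P (idem M B) ≠ 0 ↔ ∃ D : Subgroup G, IsDefectGroup p M B D ∧ P ≤ D := by
  constructor
  · intro h
    obtain ⟨D, hD⟩ := exists_isDefectGroup hM hB
    obtain ⟨a, ha, hBa⟩ := exists_tr_of_isDefectGroup hM hB hD
    obtain ⟨t, ht⟩ := exists_conj_le_of_br_ne_zero hM hP ha hBa h
    refine ⟨D.map (MulAut.conj t⁻¹).toMonoidHom, isDefectGroup_conj hD _, ?_⟩
    have h2 := Subgroup.map_mono (f := (MulAut.conj t⁻¹).toMonoidHom) ht
    rwa [map_conj_map_conj, inv_mul_cancel, map_conj_one] at h2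
  · rintro ⟨D, hD, hPD⟩
    exact br_idem_ne_zero_of_le hD hPD

/-- The subgroup of a Brauer pair of `B` is contained in a defect group of `B`. -/
theorem exists_isDefectGroup_of_pair (hM : IsPModular p M) {B : Set (IrrCharacter G)}
    {P : Subgroup G} {e : Set (IrrCharacter (Subgroup.centralizer (P : Set G)))}
    (h : IsBrauerPairOf p M B P e) : ∃ D : Subgroup G, IsDefectGroup p M B D ∧ P ≤ D := by
  rw [← br_idem_ne_zero_iff hM h.2.1 h.1.1]
  obtain ⟨ξ, hξ⟩ := isPBlock_nonempty h.1.2
  have h1 := ((isBrauerPairOf_iff hM).1 h).2.2 ξ hξ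
  intro h2
  rw [h2, map_zero] at h1
  exact zero_ne_one h1

/-- If `P` is contained in a defect group of `B`, there is a Brauer pair of `B` on `P`. -/
theorem exists_pair_of_le_isDefectGroup (hM : IsPModular p M) {B : Set (IrrCharacter G)}
    (hB : IsPBlock M B) {P D : Subgroup G} (hD : IsDefectGroup p M B D) (hPD : P ≤ D) :
    ∃ e : Set (IrrCharacter (Subgroup.centralizer (P : Set G))), IsBrauerPairOf p M B P e := by
  have : Fact p.Prime := ⟨hM.1⟩
  have := charP_resField hM
  have hP : IsPGroup p P := isPGroup_of_le (isPGroup_of_isDefectGroup hD) hPD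
  have hc : IsCls (idem M B) := isCls_idem B
  have hbb : br P (idem M B) * br P (idem M B) = br P (idem M B) := by
    rw [← br_mul (p := p) hP (isInv_of_isCls hc _) (isInv_of_isCls hc _),
      idem_mul_self hM (isUnion_of_isPBlock hB)]
  obtain ⟨ξ, hξ⟩ := exists_lam_eq_one (isCls_br_of_isCls hc) hbb (br_idem_ne_zero_of_le hD hPD)
  exact ⟨(blkOf M ξ).1, (isBrauerPairOf_iff_of_mem hM ⟨hP, (blkOf M ξ).2⟩ hB (mem_blkOf ξ)).2 hξ⟩

end Block

end Cfsg.Agent.H644
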