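import Cfsg.Agent.H644.Pairs

/-!
# Uniqueness of subpairs

* `lt_normalizer`: a proper subgroup `Q` of a finite `p`-group `P` is properly contained in
  `N_P(Q)`;
* `exists_subpairLE`, `subpairLE_unique`, `existsUnique_subpairLE` (S4655).
-/

set_option autoImplicit false
set_option linter.unusedSectionVars false

open Cfsg

namespace Cfsg.Agent.H644

open Cfsg.Agent.Blocks.Local
open Cfsg.Agent.Blocks.Basic (isPBlock_nonempty)

section Group

variable {p : ℕ} {G : Type*} [Group G] [Finite G]

/-- Normalizers grow in finite `p`-groups, inside an ambient group. -/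
theorem lt_inf_normalizer [Fact p.Prime] {P Q : Subgroup G} (hP : IsPGroup p P) (hQP : Q < P) :
    Q < P ⊓ Subgroup.normalizer (Q : Set G) := by
  have h0 : Finite P := inferInstance
  have hnil : Group.IsNilpotent P := hP.isNilpotent
  have hQ' : Q.subgroupOf P < ⊤ := by
    rw [lt_top_iff_ne_top]
    intro h
    rw [Subgroup.subgroupOf_eq_top] at h
    exact absurd hQP (not_lt_of_ge h)
  have h1 := Group.normalizerCondition_of_isNilpotent (G := P) (Q.subgroupOf P) hQ'
  refine lt_of_le_of_ne (le_inf hQP.le Subgroup.le_normalizer) fun h2 => ?_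
  obtain ⟨x, hx, hx'⟩ := SetLike.exists_of_lt h1
  apply hx'
  rw [Subgroup.mem_subgroupOf, h2]
  refine Subgroup.mem_inf.2 ⟨x.2, ?_⟩
  rw [Subgroup.mem_normalizer_iff] at hx ⊢
  intro g
  constructor
  · intro hg
    have h3 := (hx ⟨g, hQP.le hg⟩).1 (by rw [Subgroup.mem_subgroupOf]; exact hg)
    rw [Subgroup.mem_subgroupOf] at h3
    exact h3
  · intro hg
    have hgP : g ∈ P := by
      have h4 := P.mul_mem (P.mul_mem (P.inv_mem x.2) (hQP.le hg)) x.2
      simpa [mul_assoc] using h4
    have h3 := (hx ⟨g, hgP⟩).2 (by rw [Subgroup.mem_subgroupOf]; exact hg)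
    rw [Subgroup.mem_subgroupOf] at h3
    exact h3

end Group

variable {p : ℕ} {M : Ideal AlgInt} [M.IsPrime] {G : Type*} [Group G] [Finite G]

/-- Existence of subpairs. -/
theorem exists_subpairLE (hM : IsPModular p M) {P : Subgroup G}
    {e : Set (IrrCharacter (Subgroup.centralizer (P : Set G)))} (hPe : IsBrauerPair p M P e) :
    ∀ Q : Subgroup G, Q ≤ P →
      ∃ f : Set (IrrCharacter (Subgroup.centralizer (Q : Set G))), SubpairLE p M Q f P e := by
  have : Fact p.Prime := ⟨hM.1⟩
  have key : ∀ (n : ℕ) (Q : Subgroup G), Q ≤ P → Nat.card P - Nat.card Q = n →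
      ∃ f : Set (IrrCharacter (Subgroup.centralizer (Q : Set G))), SubpairLE p M Q f P e := by
    intro n
    induction n using Nat.strong_induction_on with
    | _ n ih =>
      intro Q hQP hn
      rcases hQP.eq_or_lt with rfl | hlt
      · exact ⟨e, subpairLE_refl _ _⟩
      · have h1 := lt_inf_normalizer hPe.1 hlt
        set N := P ⊓ Subgroup.normalizer (Q : Set G) with hN
        have hcard : Nat.card Q < Nat.card N := by
          have h2 : Nat.card Q ≤ Nat.card N := Subgroup.card_le_of_le h1.le
          refine lt_of_le_of_ne h2 fun h3 => h1.ne ?_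
          exact Subgroup.eq_of_le_of_card_ge h1.le h3.ge
        have hcardN : Nat.card N ≤ Nat.card P := Subgroup.card_le_of_le inf_le_left
        obtain ⟨g, hg⟩ := ih (Nat.card P - Nat.card N) (by omega) N inf_le_left rfl
        obtain ⟨f, hf, -⟩ := existsUnique_isNormalSubpair hM (isBrauerPair_of_subpairLE hg hPe)
          h1.le inf_le_right
        exact ⟨f, subpairLE_trans (subpairLE_of_isNormalSubpair hf) hg⟩
  exact fun Q hQ => key _ Q hQ rfl

/-- Uniqueness of subpairs. -/
theorem subpairLE_unique (hM : IsPModular p M) {P : Subgroup G}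
    {e : Set (IrrCharacter (Subgroup.centralizer (P : Set G)))} (hPe : IsBrauerPair p M P e) :
    ∀ (Q : Subgroup G) (f f' : Set (IrrCharacter (Subgroup.centralizer (Q : Set G)))),
      SubpairLE p M Q f P e → SubpairLE p M Q f' P e → f = f' := by
  have : Fact p.Prime := ⟨hM.1⟩
  have key : ∀ (n : ℕ) (Q : Subgroup G), Nat.card P - Nat.card Q = n →
      ∀ (f f' : Set (IrrCharacter (Subgroup.centralizer (Q : Set G)))),
      SubpairLE p M Q f P e → SubpairLE p M Q f' P e → f = f' := by
    intro n
    induction n using Nat.strong_induction_on with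
    | _ n ih =>
      intro Q hn
      -- reduce to a distinguished block
      suffices h : Q ≤ P → ∃ f₀ : Set (IrrCharacter (Subgroup.centralizer (Q : Set G))),
          ∀ f, SubpairLE p M Q f P e → f = f₀ by
        intro f f' hf hf'
        obtain ⟨f₀, h₀⟩ := h (subpairLE_le hf)
        rw [h₀ f hf, h₀ f' hf']
      intro hQP
      rcases hQP.eq_or_lt with rfl | hlt
      · -- all steps are trivial
        refine ⟨e, fun f hf => ?_⟩
        have h1 : ∀ a b : BrauerPairIdx G, Relation.ReflTransGen (NormalSubpairRel p M) a b →
            a.1 = b.1 → a = b := by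
          intro a b hab
          induction hab with
          | refl => exact fun _ => rfl
          | @tail b c h2 h3 ih2 =>
            intro hac
            have h4 : a.1 ≤ b.1 := by
              have := subpairLE_le (p := p) (M := M) (Q := a.1) (P := b.1) (f := a.2)
                (e := b.2) h2
              exact this
            have h5 : IsNormalSubpair p M b.1 b.2 c.1 c.2 := h3
            have h6 : b.1 ≤ c.1 := h5.2.2.1
            have h7 : b.1 = c.1 := le_antisymm h6 (hac ▸ h4)
            have h8 : b = c := by
              obtain ⟨R, r⟩ := b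
              obtain ⟨S, s⟩ := c
              have h7' : R = S := h7
              subst h7'
              have h9 : r = s := eq_of_isNormalSubpair_self hM h5
              rw [h9]
            rw [← h8]
            exact ih2 (hac.trans h7.symm)
        have h2 := h1 ⟨Q, f⟩ ⟨Q, e⟩ hf rfl
        exact eq_of_heq (Sigma.mk.inj h2).2
      · have h1 := lt_inf_normalizer hPe.1 hlt
        set N := P ⊓ Subgroup.normalizer (Q : Set G) with hN
        have hNP : N ≤ P := inf_le_left
        have hNQ : N ≤ Subgroup.normalizer (Q : Set G) := inf_le_right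
        obtain ⟨g, hg⟩ := exists_subpairLE hM hPe N hNP
        have hNg := isBrauerPair_of_subpairLE hg hPe
        obtain ⟨f₀, hf₀, -⟩ := existsUnique_isNormalSubpair hM hNg h1.le hNQ
        obtain ⟨hQf₀, -, -, -, hinv₀, hlam₀⟩ := (isNormalSubpair_iff hM).1 hf₀
        refine ⟨f₀, ?_⟩
        have h2 : ∀ a b : BrauerPairIdx G, Relation.ReflTransGen (NormalSubpairRel p M) a b →
            b = ⟨P, e⟩ → a.1 = Q → a = ⟨Q, f₀⟩ := by
          intro a b hab
          induction hab using Relation.ReflTransGen.head_induction_on with
          | refl =>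
            intro hb ha
            rw [hb] at ha
            exact absurd ha hlt.ne'
          | @head a c h3 h4 ih2 =>
            intro hb ha
            have h5 : IsNormalSubpair p M a.1 a.2 c.1 c.2 := h3
            rcases eq_or_ne c.1 Q with hcQ | hcQ
            · -- trivial step
              have h8 : a = c := by
                obtain ⟨R, r⟩ := a
                obtain ⟨S, s⟩ := c
                have h7' : R = S := ha.trans hcQ.symm
                subst h7'
                have h9 : r = s := eq_of_isNormalSubpair_self hM h5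
                rw [h9]
              rw [h8]
              exact ih2 hb hcQ
            · subst hb
              obtain ⟨R, r⟩ := c
              obtain ⟨Q', f⟩ := a
              have ha' : Q' = Q := ha
              subst ha'
              have h5' : IsNormalSubpair p M Q' f R r := h5
              have hcQ' : R ≠ Q' := hcQ
              have h4' : SubpairLE p M R r P e := h4
              obtain ⟨hQf, hRr, hQR, hRN, hinv, hlam⟩ := (isNormalSubpair_iff hM).1 h5'
              have hRP : R ≤ P := subpairLE_le h4'
              have hRN' : R ≤ N := le_inf hRP hRN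
              have hcard : Nat.card Q' < Nat.card R := by
                have h2 : Nat.card Q' ≤ Nat.card R := Subgroup.card_le_of_le hQR
                refine lt_of_le_of_ne h2 fun h3 => hcQ' ?_
                exact (Subgroup.eq_of_le_of_card_ge hQR h3.ge).symm
              have hcardR : Nat.card R ≤ Nat.card P := Subgroup.card_le_of_le hRP
              obtain ⟨r', hr'⟩ := exists_subpairLE hM hNg R hRN'
              have hrr : r' = r := ih (Nat.card P - Nat.card R) (by omega) R rfl r' r
                (subpairLE_trans hr' hg) h4'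
              subst hrr
              obtain ⟨ζ, hζ⟩ := isPBlock_nonempty hRr.2
              have h6 := descend_subpairLE hM hr' hQR (isCls_idem f₀)
                (idem_mul_self hM (isUnion_of_isPBlock hQf₀.2)) hinv₀ hNg.2 hlam₀ ζ hζ
              have h7 := unique_normal_subpair hM hRr.1 hQR ζ hQf.2 hQf₀.2 hinv
                (isInv_mono hRN' hinv₀) (hlam ζ hζ) h6
              rw [h7]
        intro f hf
        have h3 := h2 ⟨Q, f⟩ ⟨P, e⟩ hf rfl rfl
        exact eq_of_heq (Sigma.mk.inj h3).2
  exact fun Q f f' => key _ Q rfl f f'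

/-- **S4655** -/
theorem existsUnique_subpairLE (hM : IsPModular p M) {P Q : Subgroup G}
    {e : Set (IrrCharacter (Subgroup.centralizer (P : Set G)))} (hPe : IsBrauerPair p M P e)
    (hQP : Q ≤ P) :
    ∃! f : Set (IrrCharacter (Subgroup.centralizer (Q : Set G))), SubpairLE p M Q f P e := by
  obtain ⟨f, hf⟩ := exists_subpairLE hM hPe Q hQP
  exact ⟨f, hf, fun f' hf' => subpairLE_unique hM hPe Q f' f hf' hf⟩

/-- Inclusion is determined by a third pair: if `(R, g)` and `(Q, f)` lie below `(P, e)` and
`Q ≤ R` then `(Q, f) ≤ (R, g)`. -/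
theorem subpairLE_of_subpairLE (hM : IsPModular p M) {P Q R : Subgroup G}
    {e : Set (IrrCharacter (Subgroup.centralizer (P : Set G)))}
    {f : Set (IrrCharacter (Subgroup.centralizer (Q : Set G)))}
    {g : Set (IrrCharacter (Subgroup.centralizer (R : Set G)))} (hPe : IsBrauerPair p M P e)
    (hQ : SubpairLE p M Q f P e) (hR : SubpairLE p M R g P e) (hQR : Q ≤ R) :
    SubpairLE p M Q f R g := by
  obtain ⟨f', hf'⟩ := exists_subpairLE hM (isBrauerPair_of_subpairLE hR hPe) Q hQR
  rw [subpairLE_unique hM hPe Q f f' hQ (subpairLE_trans hf' hR)]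
  exact hf'

/-- If moreover `R` normalizes `Q` the inclusion is normal. -/
theorem isNormalSubpair_of_subpairLE (hM : IsPModular p M) {P Q : Subgroup G}
    {e : Set (IrrCharacter (Subgroup.centralizer (P : Set G)))}
    {f : Set (IrrCharacter (Subgroup.centralizer (Q : Set G)))} (hPe : IsBrauerPair p M P e)
    (hQ : SubpairLE p M Q f P e) (hPN : P ≤ Subgroup.normalizer (Q : Set G)) :
    IsNormalSubpair p M Q f P e := by
  obtain ⟨f', hf', -⟩ := existsUnique_isNormalSubpair hM hPe (subpairLE_le hQ) hPN
  rw [subpairLE_unique hM hPe Q f f' hQ (subpairLE_of_isNormalSubpair hf')]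
  exact hf'

end Cfsg.Agent.H644
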