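import Cfsg.Agent.H644.Brauer

/-!
# Brauer pairs: blocks of pairs, normal subpairs, uniqueness of subpairs

* `br_idem_idem`: for a `P`-invariant block `f` of `C_G(Q)` (`Q ≤ P`) the Brauer image of its
  idempotent is idempotent;
* `lam_br_mul` : `lam ξ ∘ br P` is multiplicative on `P`-invariant elements whose Brauer images are
  central;
* `existsUnique_isNormalSubpair` (S4656), `existsUnique_isBrauerPairOf` (S4657),
  `lam_br_eq_lam` : for a Brauer pair `(P, e)` of `B`, `λ_e ∘ Br_P = λ_B` on `Z(K[G])`;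
* `isBrauerPairOf_iff_of_isNormalSubpair`, `isBrauerPairOf_iff_of_subpairLE` (S4658);
* `existsUnique_subpairLE` (S4655).
-/

set_option autoImplicit false
set_option linter.unusedSectionVars false

open Cfsg

namespace Cfsg.Agent.H644

open Cfsg.Agent.Blocks.Local
open Cfsg.Agent.Blocks.Basic (isPBlock_nonempty isPBlock_mem_iff isPBlock_eq_of_mem
  isPBlock_eq_blockOf isPBlock_sameBlock isPBlock_mem_of_sameBlock isPBlock_blockOf
  mem_blockOf_self)

variable {p : ℕ} {M : Ideal AlgInt} [M.IsPrime] {G : Type*} [Group G] [Finite G]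

/-- `lam ξ ∘ br P` is multiplicative on elements invariant under `P` and `C_G(P)`. -/
theorem lam_br_mul (hM : IsPModular p M) {P : Subgroup G} (hP : IsPGroup p P)
    (ξ : IrrCharacter (Subgroup.centralizer (P : Set G))) {x y : MonoidAlgebra (ResField M) G}
    (hx : IsInv P x) (hy : IsInv P y) (hx' : IsInv (Subgroup.centralizer (P : Set G)) x)
    (hy' : IsInv (Subgroup.centralizer (P : Set G)) y) :
    lam M (ξ : Subgroup.centralizer (P : Set G) → ℂ) (br P (x * y)) =
      lam M (ξ : Subgroup.centralizer (P : Set G) → ℂ) (br P x) *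
        lam M (ξ : Subgroup.centralizer (P : Set G) → ℂ) (br P y) := by
  have : Fact p.Prime := ⟨hM.1⟩
  have := charP_resField hM
  rw [br_mul (p := p) hP hx hy, lam_mul ξ (isCls_br hx') (isCls_br hy')]

/-- Every Brauer pair belongs to exactly one block (in terms of idempotents), and the central
character of that block is `λ_e ∘ Br_P`. -/
theorem exists_block_of_pair (hM : IsPModular p M) {P : Subgroup G} (hP : IsPGroup p P)
    (ξ : IrrCharacter (Subgroup.centralizer (P : Set G))) :
    ∃ B : Set (IrrCharacter G), IsPBlock M B ∧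
      lam M (ξ : Subgroup.centralizer (P : Set G) → ℂ) (br P (idem M B)) = 1 ∧
      (∀ B' : Set (IrrCharacter G), IsPBlock M B' →
        lam M (ξ : Subgroup.centralizer (P : Set G) → ℂ) (br P (idem M B')) = 1 → B' = B) ∧
      ∀ χ ∈ B, ∀ x, IsCls x →
        lam M (ξ : Subgroup.centralizer (P : Set G) → ℂ) (br P x) = lam M (χ : G → ℂ) x := by
  refine exists_block_of_functional hM
    ((lam M (ξ : Subgroup.centralizer (P : Set G) → ℂ)).comp (br P)) ?_ ?_
  · intro x y hx hy
    exact lam_br_mul hM hP ξ (isInv_of_isCls hx _) (isInv_of_isCls hy _) (isInv_of_isCls hx _)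
      (isInv_of_isCls hy _)
  · rw [LinearMap.comp_apply, br_one, lam_one]

/-- `lam ξ (br P x)` only depends on the block of `ξ`. -/
theorem lam_br_congr {P : Subgroup G} {e : Set (IrrCharacter (Subgroup.centralizer (P : Set G)))}
    (he : IsPBlock M e) {ξ ζ : IrrCharacter (Subgroup.centralizer (P : Set G))} (hξ : ξ ∈ e)
    (hζ : ζ ∈ e) : lam M (ξ : Subgroup.centralizer (P : Set G) → ℂ) =
      lam M (ζ : Subgroup.centralizer (P : Set G) → ℂ) := lam_eq_of_mem he hξ hζ

/-- To be a Brauer pair of `B` it is enough to test one character. -/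
theorem isBrauerPairOf_iff_of_mem (hM : IsPModular p M) {B : Set (IrrCharacter G)}
    {P : Subgroup G} {e : Set (IrrCharacter (Subgroup.centralizer (P : Set G)))}
    (hPe : IsBrauerPair p M P e) (hB : IsPBlock M B)
    {ξ : IrrCharacter (Subgroup.centralizer (P : Set G))} (hξ : ξ ∈ e) :
    IsBrauerPairOf p M B P e ↔
      lam M (ξ : Subgroup.centralizer (P : Set G) → ℂ) (br P (idem M B)) = 1 := by
  rw [isBrauerPairOf_iff hM]
  constructor
  · rintro ⟨-, -, h⟩
    exact h ξ hξ
  · intro h
    exact ⟨hPe, hB, (forall_lam_iff hPe.2 hξ _ _).2 h⟩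

/-- **S4657** -/
theorem existsUnique_isBrauerPairOf (hM : IsPModular p M) {P : Subgroup G}
    {e : Set (IrrCharacter (Subgroup.centralizer (P : Set G)))} (hPe : IsBrauerPair p M P e) :
    ∃! B : Set (IrrCharacter G), IsBrauerPairOf p M B P e := by
  obtain ⟨ξ, hξ⟩ := isPBlock_nonempty hPe.2
  obtain ⟨B, hB, h1, h2, -⟩ := exists_block_of_pair hM hPe.1 ξ
  refine ⟨B, (isBrauerPairOf_iff_of_mem hM hPe hB hξ).2 h1, fun B' hB' => ?_⟩
  exact h2 B' hB'.2.1 ((isBrauerPairOf_iff_of_mem hM hPe hB'.2.1 hξ).1 hB')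

/-- For a Brauer pair `(P, e)` of `B`: `λ_e ∘ Br_P = λ_B` on central elements. -/
theorem lam_br_eq_lam (hM : IsPModular p M) {B : Set (IrrCharacter G)} {P : Subgroup G}
    {e : Set (IrrCharacter (Subgroup.centralizer (P : Set G)))}
    (h : IsBrauerPairOf p M B P e) {ξ : IrrCharacter (Subgroup.centralizer (P : Set G))}
    (hξ : ξ ∈ e) {χ : IrrCharacter G} (hχ : χ ∈ B) {x : MonoidAlgebra (ResField M) G}
    (hx : IsCls x) : lam M (ξ : Subgroup.centralizer (P : Set G) → ℂ) (br P x) =
      lam M (χ : G → ℂ) x := by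
  obtain ⟨B', hB', h1, h2, h3⟩ := exists_block_of_pair hM h.1.1 ξ
  have := h2 B h.2.1 ((isBrauerPairOf_iff_of_mem hM h.1 h.2.1 hξ).1 h)
  subst this
  exact h3 χ hχ x hx

/-- Conversely, if `λ_e ∘ Br_P = λ_B` on central elements, then `(P, e)` is a pair of `B`. -/
theorem isBrauerPairOf_of_lam (hM : IsPModular p M) {B : Set (IrrCharacter G)} {P : Subgroup G}
    {e : Set (IrrCharacter (Subgroup.centralizer (P : Set G)))} (hPe : IsBrauerPair p M P e)
    (hB : IsPBlock M B) {ξ : IrrCharacter (Subgroup.centralizer (P : Set G))} (hξ : ξ ∈ e)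
    {χ : IrrCharacter G} (hχ : χ ∈ B)
    (h : ∀ x : MonoidAlgebra (ResField M) G, IsCls x →
      lam M (ξ : Subgroup.centralizer (P : Set G) → ℂ) (br P x) = lam M (χ : G → ℂ) x) :
    IsBrauerPairOf p M B P e := by
  rw [isBrauerPairOf_iff_of_mem hM hPe hB hξ, h _ (isCls_idem B),
    lam_idem_of_mem hM (isUnion_of_isPBlock hB) hχ]

/-! ### Normal subpairs -/

/-- One character of `e` suffices to test normal inclusion. -/
theorem isNormalSubpair_iff_of_mem (hM : IsPModular p M) {Q P : Subgroup G}
    {f : Set (IrrCharacter (Subgroup.centralizer (Q : Set G)))}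
    {e : Set (IrrCharacter (Subgroup.centralizer (P : Set G)))}
    (hQf : IsBrauerPair p M Q f) (hPe : IsBrauerPair p M P e) (hQP : Q ≤ P)
    (hPN : P ≤ Subgroup.normalizer (Q : Set G))
    {ξ : IrrCharacter (Subgroup.centralizer (P : Set G))} (hξ : ξ ∈ e) :
    IsNormalSubpair p M Q f P e ↔ IsInv P (emb _ (idem M f)) ∧
      lam M (ξ : Subgroup.centralizer (P : Set G) → ℂ) (br P (emb _ (idem M f))) = 1 := by
  rw [isNormalSubpair_iff hM]
  constructor
  · rintro ⟨-, -, -, -, h1, h2⟩
    exact ⟨h1, h2 ξ hξ⟩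
  · rintro ⟨h1, h2⟩
    exact ⟨hQf, hPe, hQP, hPN, h1, (forall_lam_iff hPe.2 hξ _ _).2 h2⟩

theorem isPGroup_of_le {Q P : Subgroup G} (hP : IsPGroup p P) (h : Q ≤ P) : IsPGroup p Q :=
  IsPGroup.of_injective hP (Subgroup.inclusion h) (Subgroup.inclusion_injective h)

section Action

/-- The normalizer of `L` acts on the blocks of `L`. -/
noncomputable abbrev blkAction (M : Ideal AlgInt) (L : Subgroup G) :
    MulAction (Subgroup.normalizer (L : Set G)) (Blk M L) where
  smul x B := ⟨irrMap (cjE (x : G) L L (mem_iff_conj_mem_of_mem_normalizer x.2)) '' B.1,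
    isPBlock_irrMap B.2⟩
  one_smul B := by
    apply Subtype.ext
    change irrMap _ '' B.1 = B.1
    have h1 : ∀ χ : IrrCharacter L, irrMap (cjE ((1 : Subgroup.normalizer (L : Set G)) : G) L L
        (mem_iff_conj_mem_of_mem_normalizer (1 : Subgroup.normalizer (L : Set G)).2)) χ = χ := by
      intro χ
      apply Subtype.ext
      funext k
      rw [irrMap_apply]
      refine congrArg (χ : L → ℂ) (Subtype.ext ?_)
      change ((1 : Subgroup.normalizer (L : Set G)) : G)⁻¹ * (k : G) *
          ((1 : Subgroup.normalizer (L : Set G)) : G) = k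
      simp
    ext χ
    constructor
    · rintro ⟨ψ, hψ, rfl⟩
      rw [h1]
      exact hψ
    · intro h
      exact ⟨χ, h, h1 χ⟩
  mul_smul x y B := by
    apply Subtype.ext
    change irrMap _ '' B.1 = irrMap _ '' (irrMap _ '' B.1)
    rw [Set.image_image]
    have h1 : ∀ χ : IrrCharacter L, irrMap (cjE ((x * y : Subgroup.normalizer (L : Set G)) : G) L L
        (mem_iff_conj_mem_of_mem_normalizer (x * y : Subgroup.normalizer (L : Set G)).2)) χ =
        irrMap (cjE (x : G) L L (mem_iff_conj_mem_of_mem_normalizer x.2))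
          (irrMap (cjE (y : G) L L (mem_iff_conj_mem_of_mem_normalizer y.2)) χ) := by
      intro χ
      apply Subtype.ext
      funext k
      rw [irrMap_apply, irrMap_apply, irrMap_apply]
      refine congrArg (χ : L → ℂ) (Subtype.ext ?_)
      change ((x * y : Subgroup.normalizer (L : Set G)) : G)⁻¹ * (k : G) *
          ((x * y : Subgroup.normalizer (L : Set G)) : G) =
          (y : G)⁻¹ * ((x : G)⁻¹ * (k : G) * (x : G)) * (y : G)
      push_cast
      group
    refine Set.image_congr fun χ _ => h1 χ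

theorem coe_blkAction_smul (L : Subgroup G) (x : Subgroup.normalizer (L : Set G)) (B : Blk M L) :
    ((blkAction M L).smul x B).1 =
      irrMap (cjE (x : G) L L (mem_iff_conj_mem_of_mem_normalizer x.2)) '' B.1 := rfl

end Action

theorem mul_idem_emb (L : Subgroup G) (hM : IsPModular p M) {f : Set (IrrCharacter L)}
    (hf : IsUnion M f) : emb L (idem M f) * emb L (idem M f) = emb L (idem M f) := by
  rw [← map_mul, idem_mul_self hM hf]

/-- For `Q ≤ P`, the element `emb (idem f)` is invariant under `C_G(P)`. -/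
theorem isInv_centralizer_emb {Q P : Subgroup G} (hQP : Q ≤ P)
    {x : MonoidAlgebra (ResField M) (Subgroup.centralizer (Q : Set G))} (hx : IsCls x) :
    IsInv (Subgroup.centralizer (P : Set G)) (emb _ x) :=
  isInv_mono (centralizer_mono hQP) (isInv_emb hx)

/-- Existence of a `P`-stable block of `C_G(Q)` below `(P, e)`. -/
theorem exists_normal_subpair (hM : IsPModular p M) {P Q : Subgroup G} (hP : IsPGroup p P)
    (hQP : Q ≤ P) (hPN : P ≤ Subgroup.normalizer (Q : Set G))
    (ξ : IrrCharacter (Subgroup.centralizer (P : Set G))) :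
    ∃ f : Set (IrrCharacter (Subgroup.centralizer (Q : Set G))), IsPBlock M f ∧
      IsInv P (emb _ (idem M f)) ∧
      lam M (ξ : Subgroup.centralizer (P : Set G) → ℂ) (br P (emb _ (idem M f))) = 1 := by
  classical
  have : Fact p.Prime := ⟨hM.1⟩
  have := charP_resField hM
  set L : Subgroup G := Subgroup.centralizer (Q : Set G) with hL
  have hPL : P ≤ Subgroup.normalizer (L : Set G) := fun x hx =>
    mem_normalizer_centralizer (hPN hx)
  have := Fintype.ofFinite (Blk M L)
  let act0 := blkAction M L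
  let act : MulAction P (Blk M L) := MulAction.compHom _ (Subgroup.inclusion hPL)
  have hsmul : ∀ (u : P) (B : Blk M L), emb L (idem M (u • B).1) = cj (u : G) (emb L (idem M B.1)) := by
    intro u B
    exact emb_idem_irrMap (u : G) L L (mem_iff_conj_mem_of_mem_normalizer (hPL u.2)) B.1
  set F : Blk M L → ResField M := fun B =>
    lam M (ξ : Subgroup.centralizer (P : Set G) → ℂ) (br P (emb L (idem M B.1))) with hF
  have hFinv : ∀ (u : P) (B : Blk M L), F (u • B) = F B := by
    intro u B
    simp only [hF]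
    rw [hsmul, br_cj u.2]
  have hsum : ∑ B, F B = 1 := by
    simp only [hF]
    rw [← map_sum, ← map_sum, ← map_sum, sum_idem_eq_one hM, map_one, br_one, lam_one]
  obtain ⟨a, ha⟩ := Cfsg.Agent.Blocks.OrbitSum.sum_eq_sum_fixed_add_smul hP F hFinv
  rw [hsum, nsmul_eq_mul, CharP.cast_eq_zero, zero_mul, add_zero] at ha
  obtain ⟨B, hB, hFB⟩ := Finset.exists_ne_zero_of_sum_ne_zero (ha ▸ one_ne_zero)
  have hfix : ∀ u : P, u • B = B := (Finset.mem_filter.1 hB).2
  have hinv : IsInv P (emb L (idem M B.1)) := by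
    rw [isInv_iff_cj]
    intro u hu
    rw [← hsmul ⟨u, hu⟩ B, hfix ⟨u, hu⟩]
  refine ⟨B.1, B.2, hinv, ?_⟩
  have hU := isUnion_of_isPBlock B.2
  have hC : IsInv (Subgroup.centralizer (P : Set G)) (emb L (idem M B.1)) :=
    isInv_centralizer_emb hQP (isCls_idem _)
  have h2 := lam_br_mul hM hP ξ hinv hinv hC hC
  rw [mul_idem_emb L hM hU] at h2
  exact mul_right_cancel₀ hFB (by rw [one_mul]; exact h2.symm)

/-- Uniqueness of the `P`-stable block of `C_G(Q)` below `(P, e)`. -/
theorem unique_normal_subpair (hM : IsPModular p M) {P Q : Subgroup G} (hP : IsPGroup p P)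
    (hQP : Q ≤ P) (ξ : IrrCharacter (Subgroup.centralizer (P : Set G)))
    {f f' : Set (IrrCharacter (Subgroup.centralizer (Q : Set G)))} (hf : IsPBlock M f)
    (hf' : IsPBlock M f') (hinv : IsInv P (emb _ (idem M f))) (hinv' : IsInv P (emb _ (idem M f')))
    (h : lam M (ξ : Subgroup.centralizer (P : Set G) → ℂ) (br P (emb _ (idem M f))) = 1)
    (h' : lam M (ξ : Subgroup.centralizer (P : Set G) → ℂ) (br P (emb _ (idem M f'))) = 1) :
    f = f' := by
  by_contra hne
  have h1 := lam_br_mul hM hP ξ hinv hinv' (isInv_centralizer_emb hQP (isCls_idem _))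
    (isInv_centralizer_emb hQP (isCls_idem _))
  rw [← map_mul, idem_mul_idem_of_ne hM hf hf' hne, map_zero, map_zero, map_zero, h, h',
    mul_one] at h1
  exact zero_ne_one h1

/-- **S4656** -/
theorem existsUnique_isNormalSubpair (hM : IsPModular p M) {P Q : Subgroup G}
    {e : Set (IrrCharacter (Subgroup.centralizer (P : Set G)))} (hPe : IsBrauerPair p M P e)
    (hQP : Q ≤ P) (hPN : P ≤ Subgroup.normalizer (Q : Set G)) :
    ∃! f : Set (IrrCharacter (Subgroup.centralizer (Q : Set G))),
      IsNormalSubpair p M Q f P e := by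
  obtain ⟨ξ, hξ⟩ := isPBlock_nonempty hPe.2
  obtain ⟨f, hf, hinv, h1⟩ := exists_normal_subpair hM hPe.1 hQP hPN ξ
  have hQ : IsPGroup p Q := isPGroup_of_le hPe.1 hQP
  refine ⟨f, (isNormalSubpair_iff_of_mem hM ⟨hQ, hf⟩ hPe hQP hPN hξ).2 ⟨hinv, h1⟩, ?_⟩
  intro f' hf'
  obtain ⟨h2, h3⟩ := (isNormalSubpair_iff_of_mem hM hf'.1 hPe hQP hPN hξ).1 hf'
  exact unique_normal_subpair hM hPe.1 hQP ξ hf'.1.2 hf h2 hinv h3 h1

/-- `(Q, f) ⊴ (P, e)` and `(Q, f)` a pair of `B` imply that `(P, e)` is a pair of `B`. -/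
theorem isBrauerPairOf_of_isNormalSubpair (hM : IsPModular p M) {B : Set (IrrCharacter G)}
    {Q P : Subgroup G} {f : Set (IrrCharacter (Subgroup.centralizer (Q : Set G)))}
    {e : Set (IrrCharacter (Subgroup.centralizer (P : Set G)))}
    (h : IsNormalSubpair p M Q f P e) (hB : IsBrauerPairOf p M B Q f) :
    IsBrauerPairOf p M B P e := by
  have : Fact p.Prime := ⟨hM.1⟩
  have := charP_resField hM
  obtain ⟨hQf, hPe, hQP, hPN, hinv, h1⟩ := (isNormalSubpair_iff hM).1 h
  obtain ⟨-, hBB, h2⟩ := (isBrauerPairOf_iff hM).1 hB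
  refine (isBrauerPairOf_iff hM).2 ⟨hPe, hBB, fun ξ hξ => ?_⟩
  have hBi : IsCls (idem M B) := isCls_idem B
  have hbQ : IsCls (br Q (idem M B)) := isCls_br_of_isCls hBi
  have hbQ2 : br Q (idem M B) * br Q (idem M B) = br Q (idem M B) := by
    rw [← br_mul (p := p) hQf.1 (isInv_of_isCls hBi Q) (isInv_of_isCls hBi Q),
      idem_mul_self hM (isUnion_of_isPBlock hBB)]
  have h3 := mul_idem_of_lam_eq_one hM hbQ hbQ2 (isUnion_of_isPBlock hQf.2) h2
  -- `emb (br Q b)` is `P`-invariant
  have hinv' : IsInv P (emb _ (br Q (idem M B))) := by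
    intro u hu g
    have hN := mem_normalizer_centralizer (hPN hu)
    have hiff := mem_iff_conj_mem_of_mem_normalizer hN g
    by_cases hg : g ∈ Subgroup.centralizer (Q : Set G)
    · rw [coeff_emb_of_mem _ hg, coeff_emb_of_mem _ (hiff.1 hg), coeff_br, coeff_br]
      exact hBi g u
    · rw [coeff_emb_of_notMem _ hg, coeff_emb_of_notMem _ (fun h' => hg (hiff.2 h'))]
  have h4 := lam_br_mul hM hPe.1 ξ hinv' hinv (isInv_centralizer_emb hQP hbQ)
    (isInv_centralizer_emb hQP (isCls_idem _))
  rw [← map_mul, h3, h1 ξ hξ, mul_one, br_emb_br hQP] at h4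
  exact h4.symm

/-- Normal inclusion preserves the block. -/
theorem isBrauerPairOf_iff_of_isNormalSubpair (hM : IsPModular p M) {B : Set (IrrCharacter G)}
    {Q P : Subgroup G} {f : Set (IrrCharacter (Subgroup.centralizer (Q : Set G)))}
    {e : Set (IrrCharacter (Subgroup.centralizer (P : Set G)))}
    (h : IsNormalSubpair p M Q f P e) :
    IsBrauerPairOf p M B P e ↔ IsBrauerPairOf p M B Q f := by
  refine ⟨fun hB => ?_, isBrauerPairOf_of_isNormalSubpair hM h⟩
  obtain ⟨B', hB', -⟩ := existsUnique_isBrauerPairOf hM h.1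
  have h1 := isBrauerPairOf_of_isNormalSubpair hM h hB'
  obtain ⟨B'', -, h2⟩ := existsUnique_isBrauerPairOf hM h.2.1
  rw [h2 B hB, ← h2 B' h1]
  exact hB'

/-- **S4658** (and more): inclusion of Brauer pairs preserves the block. -/
theorem isBrauerPairOf_iff_of_subpairLE (hM : IsPModular p M) {B : Set (IrrCharacter G)}
    {Q P : Subgroup G} {f : Set (IrrCharacter (Subgroup.centralizer (Q : Set G)))}
    {e : Set (IrrCharacter (Subgroup.centralizer (P : Set G)))}
    (h : SubpairLE p M Q f P e) :
    IsBrauerPairOf p M B P e ↔ IsBrauerPairOf p M B Q f := by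
  have key : ∀ a b : BrauerPairIdx G, Relation.ReflTransGen (NormalSubpairRel p M) a b →
      (IsBrauerPairOf p M B b.1 b.2 ↔ IsBrauerPairOf p M B a.1 a.2) := by
    intro a b hab
    induction hab with
    | refl => exact Iff.rfl
    | tail _ h1 ih => exact (isBrauerPairOf_iff_of_isNormalSubpair hM h1).trans ih
  exact key _ _ h

/-! ### Inclusion of pairs: basic facts -/

theorem subpairLE_refl (Q : Subgroup G)
    (f : Set (IrrCharacter (Subgroup.centralizer (Q : Set G)))) : SubpairLE p M Q f Q f :=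
  Relation.ReflTransGen.refl

theorem subpairLE_trans {Q R P : Subgroup G}
    {f : Set (IrrCharacter (Subgroup.centralizer (Q : Set G)))}
    {g : Set (IrrCharacter (Subgroup.centralizer (R : Set G)))}
    {e : Set (IrrCharacter (Subgroup.centralizer (P : Set G)))}
    (h : SubpairLE p M Q f R g) (h' : SubpairLE p M R g P e) : SubpairLE p M Q f P e :=
  Relation.ReflTransGen.trans h h'

theorem subpairLE_of_isNormalSubpair {Q P : Subgroup G}
    {f : Set (IrrCharacter (Subgroup.centralizer (Q : Set G)))}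
    {e : Set (IrrCharacter (Subgroup.centralizer (P : Set G)))}
    (h : IsNormalSubpair p M Q f P e) : SubpairLE p M Q f P e :=
  Relation.ReflTransGen.single h

theorem subpairLE_le {Q P : Subgroup G}
    {f : Set (IrrCharacter (Subgroup.centralizer (Q : Set G)))}
    {e : Set (IrrCharacter (Subgroup.centralizer (P : Set G)))}
    (h : SubpairLE p M Q f P e) : Q ≤ P := by
  have key : ∀ a b : BrauerPairIdx G, Relation.ReflTransGen (NormalSubpairRel p M) a b →
      a.1 ≤ b.1 := by
    intro a b hab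
    induction hab with
    | refl => exact le_rfl
    | tail _ h1 ih => exact ih.trans h1.2.2.1
  exact key _ _ h

/-- The smaller pair of an inclusion is a Brauer pair if the bigger one is. -/
theorem isBrauerPair_of_subpairLE {Q P : Subgroup G}
    {f : Set (IrrCharacter (Subgroup.centralizer (Q : Set G)))}
    {e : Set (IrrCharacter (Subgroup.centralizer (P : Set G)))}
    (h : SubpairLE p M Q f P e) (hPe : IsBrauerPair p M P e) : IsBrauerPair p M Q f := by
  have key : ∀ a b : BrauerPairIdx G, Relation.ReflTransGen (NormalSubpairRel p M) a b →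
      IsBrauerPair p M b.1 b.2 → IsBrauerPair p M a.1 a.2 := by
    intro a b hab
    induction hab using Relation.ReflTransGen.head_induction_on with
    | refl => exact fun h => h
    | head h1 _ ih => exact fun _ => h1.1
  exact key _ _ h hPe

/-- The bigger pair of an inclusion is a Brauer pair if the smaller one is. -/
theorem isBrauerPair_of_subpairLE' {Q P : Subgroup G}
    {f : Set (IrrCharacter (Subgroup.centralizer (Q : Set G)))}
    {e : Set (IrrCharacter (Subgroup.centralizer (P : Set G)))}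
    (h : SubpairLE p M Q f P e) (hQf : IsBrauerPair p M Q f) : IsBrauerPair p M P e := by
  have key : ∀ a b : BrauerPairIdx G, Relation.ReflTransGen (NormalSubpairRel p M) a b →
      IsBrauerPair p M a.1 a.2 → IsBrauerPair p M b.1 b.2 := by
    intro a b hab
    induction hab with
    | refl => exact fun h => h
    | tail _ h1 ih => exact fun _ => h1.2.1
  exact key _ _ h hQf

/-- A normal inclusion between pairs with the same subgroup is an equality. -/
theorem eq_of_isNormalSubpair_self (hM : IsPModular p M) {P : Subgroup G}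
    {f e : Set (IrrCharacter (Subgroup.centralizer (P : Set G)))}
    (h : IsNormalSubpair p M P f P e) : f = e := by
  obtain ⟨hf, he, -, -, -, h1⟩ := (isNormalSubpair_iff hM).1 h
  obtain ⟨ξ, hξ⟩ := isPBlock_nonempty he.2
  have h2 := h1 ξ hξ
  unfold br at h2
  rw [res_emb, lam_idem_eq_one_iff hM (isUnion_of_isPBlock hf.2)] at h2
  exact isPBlock_eq_of_mem hf.2 he.2 h2 hξ

/-- Every pair is a normal subpair of itself. -/
theorem isNormalSubpair_self (hM : IsPModular p M) {P : Subgroup G}
    {e : Set (IrrCharacter (Subgroup.centralizer (P : Set G)))} (hPe : IsBrauerPair p M P e) :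
    IsNormalSubpair p M P e P e := by
  refine (isNormalSubpair_iff hM).2 ⟨hPe, hPe, le_rfl, Subgroup.le_normalizer, ?_, ?_⟩
  · intro u hu g
    by_cases hg : g ∈ Subgroup.centralizer (P : Set G)
    · have h2 : u * g = g * u := (Subgroup.mem_centralizer_iff.1 hg) u hu
      rw [h2, mul_inv_cancel_right]
    · have h3 : u * g * u⁻¹ ∉ Subgroup.centralizer (P : Set G) := by
        intro h'
        apply hg
        rw [mem_iff_conj_mem_of_mem_normalizer (mem_normalizer_centralizer
          (Subgroup.le_normalizer hu))]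
        exact h'
      rw [coeff_emb_of_notMem _ hg, coeff_emb_of_notMem _ h3]
  · intro ξ hξ
    unfold br
    rw [res_emb, lam_idem_of_mem hM (isUnion_of_isPBlock hPe.2) hξ]

/-- **Descent**: let `(R, g) ⊴ (S, e)`, `Q ≤ R`, and let `f` be an `S`-invariant block of `C_G(Q)`
whose Brauer image at `S` contains `e`.  Then its Brauer image at `R` contains `g`. -/
theorem descend (hM : IsPModular p M) {Q R S : Subgroup G}
    {g : Set (IrrCharacter (Subgroup.centralizer (R : Set G)))}
    {e : Set (IrrCharacter (Subgroup.centralizer (S : Set G)))}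
    (hRS : IsNormalSubpair p M R g S e) (hQR : Q ≤ R)
    {x : MonoidAlgebra (ResField M) (Subgroup.centralizer (Q : Set G))} (hx : IsCls x)
    (hxx : x * x = x) (hinv : IsInv S (emb _ x))
    {ξ : IrrCharacter (Subgroup.centralizer (S : Set G))} (hξ : ξ ∈ e)
    (h1 : lam M (ξ : Subgroup.centralizer (S : Set G) → ℂ) (br S (emb _ x)) = 1)
    {ζ : IrrCharacter (Subgroup.centralizer (R : Set G))} (hζ : ζ ∈ g) :
    lam M (ζ : Subgroup.centralizer (R : Set G) → ℂ) (br R (emb _ x)) = 1 := by
  have : Fact p.Prime := ⟨hM.1⟩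
  have := charP_resField hM
  obtain ⟨hRg, hSe, hRSle, hSN, hginv, h2⟩ := (isNormalSubpair_iff hM).1 hRS
  have hinvR : IsInv R (emb _ x) := isInv_mono hRSle hinv
  have hy : IsCls (br R (emb _ x)) := isCls_br_emb hQR hx
  have hyy : br R (emb _ x) * br R (emb _ x) = br R (emb _ x) := by
    rw [← br_mul (p := p) hRg.1 hinvR hinvR, ← map_mul, hxx]
  rcases lam_idempotent ζ hy hyy with h0 | h0
  · exfalso
    have h3 : br R (emb _ x) * idem M g = 0 := mul_idem_of_lam_eq_zero hM hy hyy
      (isUnion_of_isPBlock hRg.2) ((forall_lam_iff hRg.2 hζ _ _).2 h0)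
    -- `emb (br R (emb x))` is `S`-invariant
    have hinv' : IsInv S (emb _ (br R (emb _ x))) := by
      intro u hu a
      have hN := mem_normalizer_centralizer (hSN hu)
      have hiff := mem_iff_conj_mem_of_mem_normalizer hN a
      by_cases ha : a ∈ Subgroup.centralizer (R : Set G)
      · rw [coeff_emb_of_mem _ ha, coeff_emb_of_mem _ (hiff.1 ha), coeff_br, coeff_br]
        exact hinv u hu a
      · rw [coeff_emb_of_notMem _ ha, coeff_emb_of_notMem _ (fun h' => ha (hiff.2 h'))]
    have h4 := lam_br_mul hM hSe.1 ξ hinv' hginv (isInv_centralizer_emb hRSle hy)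
      (isInv_centralizer_emb hRSle (isCls_idem _))
    rw [← map_mul, h3, map_zero, map_zero, map_zero, h2 ξ hξ, mul_one, br_emb_br hRSle, h1] at h4
    exact zero_ne_one h4
  · exact h0

/-- Descent along a chain of normal inclusions inside the normalizer of `Q`. -/
theorem descend_subpairLE (hM : IsPModular p M) {Q R S : Subgroup G}
    {g : Set (IrrCharacter (Subgroup.centralizer (R : Set G)))}
    {e : Set (IrrCharacter (Subgroup.centralizer (S : Set G)))}
    (hRS : SubpairLE p M R g S e) (hQR : Q ≤ R)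
    {x : MonoidAlgebra (ResField M) (Subgroup.centralizer (Q : Set G))} (hx : IsCls x)
    (hxx : x * x = x) (hinv : IsInv S (emb _ x)) (he : IsPBlock M e)
    (h1 : ∀ ξ ∈ e, lam M (ξ : Subgroup.centralizer (S : Set G) → ℂ) (br S (emb _ x)) = 1) :
    ∀ ζ ∈ g, lam M (ζ : Subgroup.centralizer (R : Set G) → ℂ) (br R (emb _ x)) = 1 := by
  have key : ∀ a b : BrauerPairIdx G, Relation.ReflTransGen (NormalSubpairRel p M) a b →
      Q ≤ a.1 → IsInv b.1 (emb _ x) → IsPBlock M b.2 →
      (∀ ξ ∈ b.2, lam M (ξ : Subgroup.centralizer (b.1 : Set G) → ℂ) (br b.1 (emb _ x)) = 1) →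
      ∀ ζ ∈ a.2, lam M (ζ : Subgroup.centralizer (a.1 : Set G) → ℂ) (br a.1 (emb _ x)) = 1 := by
    intro a b hab
    induction hab with
    | refl => exact fun _ _ _ h => h
    | @tail b c h2 h3 ih =>
      intro hQa hinvc hc hcc
      have hab : a.1 ≤ b.1 := by
        have := subpairLE_le (p := p) (M := M) (Q := a.1) (P := b.1) (f := a.2) (e := b.2) h2
        exact this
      have hbc : IsNormalSubpair p M b.1 b.2 c.1 c.2 := h3
      obtain ⟨ξ, hξ⟩ := isPBlock_nonempty hc
      exact ih hQa (isInv_mono hbc.2.2.1 hinvc) hbc.1.2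
        (fun ζ hζ => descend hM hbc (hQa.trans hab) hx hxx hinvc hξ (hcc ξ hξ) hζ)
  exact key _ _ hRS hQR hinv he h1

end Cfsg.Agent.H644
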