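import Cfsg.Agent.H644.Maximal
import Cfsg.Agent.H649.ConjPair

/-!
# Conjugacy of maximal Brauer pairs

* `exists_conj_of_pairs`: two pairs `(P, e)`, `(P, g)` of the same block `B` with `P` a defect group
  of `B` are conjugate under `N_G(P)`;
* `conjIdx_of_mem_normalizer`;
* `exists_conj_of_isMaximalBrauerPair`: maximal pairs of `B` are conjugate;
* `exists_conj_subpairLE` (S4660).
-/

set_option autoImplicit false
set_option linter.unusedSectionVars false

open Cfsg

namespace Cfsg.Agent.H644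

open Cfsg.Agent.Blocks.Local
open Cfsg.Agent.Blocks.Basic (isPBlock_nonempty isPBlock_eq_of_mem isPBlock_mem_of_sameBlock)

variable {p : ℕ} {M : Ideal AlgInt} [M.IsPrime] {G : Type*} [Group G] [Finite G]

/-- The union of the conjugates of `e` under the normalizer of `L`. -/
def conjUnion (L : Subgroup G) (N : Subgroup G) (hN : N ≤ Subgroup.normalizer (L : Set G))
    (e : Set (IrrCharacter L)) : Set (IrrCharacter L) :=
  {ξ | ∃ n : N, ξ ∈ irrMap (cjE (n : G) L L (mem_iff_conj_mem_of_mem_normalizer (hN n.2))) '' e}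

theorem isUnion_conjUnion {L N : Subgroup G} (hN : N ≤ Subgroup.normalizer (L : Set G))
    {e : Set (IrrCharacter L)} (he : IsPBlock M e) : IsUnion M (conjUnion L N hN e) := by
  rintro ξ ⟨n, hn⟩ ψ h
  exact ⟨n, isPBlock_mem_of_sameBlock (isPBlock_irrMap he) hn h⟩

theorem irrMap_cjE_mul {L N : Subgroup G} (hN : N ≤ Subgroup.normalizer (L : Set G)) (n m : N)
    (χ : IrrCharacter L) :
    irrMap (cjE ((n * m : N) : G) L L (mem_iff_conj_mem_of_mem_normalizer (hN (n * m).2))) χ =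
      irrMap (cjE (n : G) L L (mem_iff_conj_mem_of_mem_normalizer (hN n.2)))
        (irrMap (cjE (m : G) L L (mem_iff_conj_mem_of_mem_normalizer (hN m.2))) χ) := by
  apply Subtype.ext
  funext k
  rw [irrMap_apply, irrMap_apply, irrMap_apply]
  refine congrArg (χ : L → ℂ) (Subtype.ext ?_)
  change ((n * m : N) : G)⁻¹ * (k : G) * ((n * m : N) : G) =
    (m : G)⁻¹ * ((n : G)⁻¹ * (k : G) * (n : G)) * (m : G)
  push_cast
  group

theorem irrMap_cjE_one {L N : Subgroup G} (hN : N ≤ Subgroup.normalizer (L : Set G))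
    (χ : IrrCharacter L) :
    irrMap (cjE ((1 : N) : G) L L (mem_iff_conj_mem_of_mem_normalizer (hN (1 : N).2))) χ = χ := by
  apply Subtype.ext
  funext k
  rw [irrMap_apply]
  refine congrArg (χ : L → ℂ) (Subtype.ext ?_)
  change ((1 : N) : G)⁻¹ * (k : G) * ((1 : N) : G) = k
  simp

theorem subset_conjUnion {L N : Subgroup G} (hN : N ≤ Subgroup.normalizer (L : Set G))
    (e : Set (IrrCharacter L)) : e ⊆ conjUnion L N hN e := fun χ hχ =>
  ⟨1, χ, hχ, irrMap_cjE_one hN χ⟩

theorem irrMap_image_conjUnion {L N : Subgroup G} (hN : N ≤ Subgroup.normalizer (L : Set G))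
    (e : Set (IrrCharacter L)) (m : N) :
    irrMap (cjE (m : G) L L (mem_iff_conj_mem_of_mem_normalizer (hN m.2))) ''
      conjUnion L N hN e = conjUnion L N hN e := by
  have key : ∀ m : N, irrMap (cjE (m : G) L L (mem_iff_conj_mem_of_mem_normalizer (hN m.2))) ''
      conjUnion L N hN e ⊆ conjUnion L N hN e := by
    rintro m _ ⟨_, ⟨n, χ, hχ, rfl⟩, rfl⟩
    exact ⟨m * n, χ, hχ, irrMap_cjE_mul hN m n χ⟩
  refine Set.Subset.antisymm (key m) fun ξ hξ => ?_
  refine ⟨irrMap (cjE ((m⁻¹ : N) : G) L L (mem_iff_conj_mem_of_mem_normalizer (hN (m⁻¹).2))) ξ,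
    key m⁻¹ ⟨ξ, hξ, rfl⟩, ?_⟩
  rw [← irrMap_cjE_mul hN m m⁻¹ ξ]
  have h1 : ∀ n : N, n = 1 → irrMap (cjE (n : G) L L
      (mem_iff_conj_mem_of_mem_normalizer (hN n.2))) ξ = ξ := by
    rintro n rfl
    exact irrMap_cjE_one hN ξ
  exact h1 _ (mul_inv_cancel m)

theorem isInv_idem_conjUnion {L N : Subgroup G} (hN : N ≤ Subgroup.normalizer (L : Set G))
    (e : Set (IrrCharacter L)) : IsInv N (emb L (idem M (conjUnion L N hN e))) := by
  rw [isInv_iff_cj]
  intro x hx
  rw [← emb_idem_irrMap x L L (mem_iff_conj_mem_of_mem_normalizer (hN hx)),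
    irrMap_image_conjUnion hN e ⟨x, hx⟩]

/-- If the central characters of two blocks `e`, `g` of `L` agree on all central elements of
`K[L]` invariant under `N ≤ N_G(L)`, then the blocks are conjugate under `N`. -/
theorem exists_conj_of_lam {L N : Subgroup G} (hM : IsPModular p M)
    (hN : N ≤ Subgroup.normalizer (L : Set G)) {e g : Set (IrrCharacter L)}
    (he : IsPBlock M e) (hg : IsPBlock M g) {ξ ζ : IrrCharacter L} (hξ : ξ ∈ e) (hζ : ζ ∈ g)
    (h : ∀ z : MonoidAlgebra (ResField M) L, IsCls z → IsInv N (emb L z) →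
      lam M (ξ : L → ℂ) z = lam M (ζ : L → ℂ) z) :
    ∃ n : N, irrMap (cjE (n : G) L L (mem_iff_conj_mem_of_mem_normalizer (hN n.2))) '' e = g := by
  have hU := isUnion_conjUnion hN he
  have h1 := h _ (isCls_idem (conjUnion L N hN e)) (isInv_idem_conjUnion hN e)
  rw [lam_idem_of_mem hM hU (subset_conjUnion hN e hξ)] at h1
  have h2 : ζ ∈ conjUnion L N hN e := (lam_idem_eq_one_iff hM hU).1 h1.symm
  obtain ⟨n, hn⟩ := h2
  exact ⟨n, isPBlock_eq_of_mem (isPBlock_irrMap he) hg hn hζ⟩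

/-- Two Brauer pairs of `B` on the same defect group are conjugate under the normalizer. -/
theorem exists_conj_of_pairs (hM : IsPModular p M) {B : Set (IrrCharacter G)} {P : Subgroup G}
    {e g : Set (IrrCharacter (Subgroup.centralizer (P : Set G)))}
    (he : IsBrauerPairOf p M B P e) (hg : IsBrauerPairOf p M B P g)
    (hD : IsDefectGroup p M B P) :
    ∃ n ∈ Subgroup.normalizer (P : Set G), ∃ hn, irrMap (cjE n (Subgroup.centralizer (P : Set G))
      (Subgroup.centralizer (P : Set G)) hn) '' e = g := by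
  have : Fact p.Prime := ⟨hM.1⟩
  have := charP_resField hM
  obtain ⟨ξ, hξ⟩ := isPBlock_nonempty he.1.2
  obtain ⟨ζ, hζ⟩ := isPBlock_nonempty hg.1.2
  obtain ⟨χ, hχ⟩ := isPBlock_nonempty he.2.1
  obtain ⟨a, ha, hBa⟩ := exists_tr_of_isDefectGroup hM he.2.1 hD
  have hN : Subgroup.normalizer (P : Set G) ≤
      Subgroup.normalizer ((Subgroup.centralizer (P : Set G) : Subgroup G) : Set G) :=
    fun x hx => mem_normalizer_centralizer hx
  have key : ∀ (e : Set (IrrCharacter (Subgroup.centralizer (P : Set G)))),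
      IsBrauerPairOf p M B P e → ∀ ξ ∈ e,
      ∀ z : MonoidAlgebra (ResField M) (Subgroup.centralizer (P : Set G)), IsCls z →
        IsInv (Subgroup.normalizer (P : Set G)) (emb _ z) →
        lam M (ξ : Subgroup.centralizer (P : Set G) → ℂ) z =
          lam M (χ : G → ℂ) (tr P ⊤ (emb _ z * a)) := by
    intro e he ξ hξ z hz hzN
    have hza : IsInv P (emb _ z * a) := isInv_mul (isInv_of_emb_centralizer P z) ha
    have hcls : IsCls (tr P ⊤ (emb _ z * a)) := isCls_iff_isInv_top.2 (isInv_tr le_top hza)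
    have h1 : lam M (ξ : Subgroup.centralizer (P : Set G) → ℂ) (br P (idem M B)) = 1 :=
      ((isBrauerPairOf_iff hM).1 he).2.2 ξ hξ
    have h2 : lam M (ξ : Subgroup.centralizer (P : Set G) → ℂ) z =
        lam M (ξ : Subgroup.centralizer (P : Set G) → ℂ) (z * br P (idem M B)) := by
      rw [lam_mul ξ hz (isCls_br_of_isCls (isCls_idem B)), h1, mul_one]
    rw [h2, hBa, br_tr_top he.1.1 ha, ← br_emb_mul, mul_tr hzN, ← br_tr_top he.1.1 hza,
      lam_br_eq_lam hM he hξ hχ hcls]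
  obtain ⟨n, hn⟩ := exists_conj_of_lam hM hN he.1.2 hg.1.2 hξ hζ (fun z hz hzN => by
    rw [key e he ξ hξ z hz hzN, key g hg ζ hζ z hz hzN])
  exact ⟨n, n.2, _, hn⟩

/-- Conjugation of a pair by an element normalizing its subgroup. -/
theorem conjIdx_of_mem_normalizer {P : Subgroup G} {n : G}
    (hn : n ∈ Subgroup.normalizer (P : Set G))
    (h : ∀ g, g ∈ Subgroup.centralizer (P : Set G) ↔
      n * g * n⁻¹ ∈ Subgroup.centralizer (P : Set G))
    (e : Set (IrrCharacter (Subgroup.centralizer (P : Set G)))) :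
    Cfsg.Agent.H649.conjIdx n ⟨P, e⟩ = ⟨P, irrMap (cjE n _ _ h) '' e⟩ := by
  refine Cfsg.Agent.H649.idx_ext
    ((Cfsg.Agent.H649.mem_normalizer_iff_map_conj P n).1 hn) fun φ => ?_
  refine (Cfsg.Agent.H649.idxMap_test (MulAut.conj n) ⟨P, e⟩ φ).trans ?_
  constructor
  · rintro ⟨ξ, hξ, h2⟩
    refine ⟨irrMap (cjE n _ _ h) ξ, ⟨ξ, hξ, rfl⟩, fun k => ?_⟩
    obtain ⟨k, rfl⟩ := (cjE n _ _ h).surjective k
    rw [irrMap_apply_map, ← h2]
    rfl
  · rintro ⟨_, ⟨ξ, hξ, rfl⟩, h2⟩
    refine ⟨ξ, hξ, fun k => ?_⟩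
    have h3 := h2 (cjE n _ _ h k)
    rw [irrMap_apply_map] at h3
    exact h3

/-- Any two Brauer pairs of `B` whose subgroups are defect groups are conjugate. -/
theorem exists_conjIdx_eq (hM : IsPModular p M) {B : Set (IrrCharacter G)} {P R : Subgroup G}
    {e : Set (IrrCharacter (Subgroup.centralizer (P : Set G)))}
    {g : Set (IrrCharacter (Subgroup.centralizer (R : Set G)))}
    (he : IsBrauerPairOf p M B P e) (hg : IsBrauerPairOf p M B R g)
    (hP : IsDefectGroup p M B P) (hR : IsDefectGroup p M B R) :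
    ∃ x : G, Cfsg.Agent.H649.conjIdx x ⟨R, g⟩ = (⟨P, e⟩ : BrauerPairIdx G) := by
  obtain ⟨t, ht⟩ := exists_conj_of_isDefectGroup hM he.2.1 hR hP
  subst ht
  have h1 := (Cfsg.Agent.H649.isBrauerPairOf_conj_iff (p := p) (M := M) B R t g).2 hg
  obtain ⟨n, hn, hn', h2⟩ := exists_conj_of_pairs hM h1 he hP
  refine ⟨n * t, ?_⟩
  rw [← Cfsg.Agent.H649.conjIdx_conjIdx, Cfsg.Agent.H649.conjIdx_mk t R g,
    conjIdx_of_mem_normalizer hn hn', h2]

/-- Maximal Brauer pairs of `B` are conjugate. -/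
theorem exists_conj_of_isMaximalBrauerPair (hM : IsPModular p M) {B : Set (IrrCharacter G)}
    {P R : Subgroup G} {e : Set (IrrCharacter (Subgroup.centralizer (P : Set G)))}
    {g : Set (IrrCharacter (Subgroup.centralizer (R : Set G)))}
    (he : IsMaximalBrauerPair p M B P e) (hg : IsMaximalBrauerPair p M B R g) :
    ∃ x : G, Cfsg.Agent.H649.conjIdx x ⟨R, g⟩ = (⟨P, e⟩ : BrauerPairIdx G) :=
  exists_conjIdx_eq hM he.1 hg.1 (isDefectGroup_of_isMaximalBrauerPair hM he)
    (isDefectGroup_of_isMaximalBrauerPair hM hg)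

/-- **S4660** -/
theorem exists_conj_subpairLE (hM : IsPModular p M) {B : Set (IrrCharacter G)}
    {P Q : Subgroup G} {e : Set (IrrCharacter (Subgroup.centralizer (P : Set G)))}
    {f : Set (IrrCharacter (Subgroup.centralizer (Q : Set G)))}
    (hmax : IsMaximalBrauerPair p M B P e) (hQf : IsBrauerPairOf p M B Q f) :
    ∃ x : G, SubpairLE p M (Q.map (MulAut.conj x).toMonoidHom) (conjBlock Q x f) P e := by
  obtain ⟨R, g, hR, hle⟩ := exists_maximal_above hM hQf
  obtain ⟨x, hx⟩ := exists_conj_of_isMaximalBrauerPair hM hmax hR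
  refine ⟨x, ?_⟩
  have h1 : Cfsg.Agent.H649.LEIdx p M (Cfsg.Agent.H649.conjIdx x ⟨Q, f⟩)
      (Cfsg.Agent.H649.conjIdx x ⟨R, g⟩) := (Cfsg.Agent.H649.leIdx_conjIdx_iff x).2 hle
  rw [hx, Cfsg.Agent.H649.conjIdx_mk] at h1
  exact h1

end Cfsg.Agent.H644
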