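import Mathlib
import Cfsg.Prelude.Def_BrauerPairs
import Cfsg.Agent.Blocks.Local
import Cfsg.Agent.Blocks.MinMax
import Cfsg.Agent.Blocks.OsimaUnion

/-!
# Central characters modulo `M` on the group algebra over the residue field

`K = ResField M` is the residue field of the local ring at `M`; `A = MonoidAlgebra K H` is the group
algebra of the finite group `H` over `K`.

* `mkA f`: the element with coefficient function `f : H → K`; `toK M f` the reduction of
  `f : H → ℂ`;
* `IsCls x`: the coefficients of `x` are constant on conjugacy classes (`x` is central);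
* `lam M χ : A →ₗ[K] K`: the central character of `χ` modulo `M`, multiplicative on central elements
  (`lam_mul`), `lam_toK`, `lam_eq_iff_sameBlock`;
* `idem M S = toK M (blockCoeff S)`: for a union of blocks `S` (`IsUnion`), the idempotent of `S`,
  `lam_idem`, `isCls_idem`, `idem_mul_idem`;
* `eq_of_lam` : central idempotents with the same central characters are equal;
* `isNilpotent_of_lam`: central elements killed by all central characters are nilpotent;
* `exists_inv_of_lam`: a central element with nonzero central character on the block `B` is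
  invertible modulo the other blocks;
* `sum_idem_eq_one`: `1` is the sum of the block idempotents;
* `exists_unique_block_of_functional`: a linear functional multiplicative on central elements with
  value `1` at `1` is the central character of exactly one block.
-/

set_option autoImplicit false
set_option linter.unusedSectionVars false

open Cfsg

namespace Cfsg.Agent.H644

open Cfsg.Agent.Blocks.Local Cfsg.Agent.Blocks.ConvCentral Cfsg.Agent.Blocks.MinMax
open Cfsg.Agent.Blocks.Basic (isPBlock_nonempty isPBlock_mem_iff isPBlock_eq_of_mem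
  isPBlock_eq_blockOf isPBlock_sameBlock isPBlock_mem_of_sameBlock isPBlock_blockOf
  mem_blockOf_self)

section Alg

variable {K : Type*} [Field K] {H : Type*} [Group H] [Finite H]

/-- The element of the group algebra with the given coefficient function. -/
noncomputable def mkA (f : H → K) : MonoidAlgebra K H :=
  MonoidAlgebra.ofCoeff (Finsupp.equivFunOnFinite.symm f)

@[simp]
theorem coeff_mkA (f : H → K) (g : H) : (mkA f).coeff g = f g := rfl

theorem mkA_coeff (x : MonoidAlgebra K H) : mkA (fun g => x.coeff g) = x := by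
  apply MonoidAlgebra.coeff_injective
  apply Finsupp.ext
  intro g
  rfl

omit [Finite H] [Group H] in
theorem ext_coeff {x y : MonoidAlgebra K H} (h : ∀ g, x.coeff g = y.coeff g) : x = y :=
  MonoidAlgebra.coeff_injective (Finsupp.ext h)

omit [Finite H] in
/-- The coefficients of a product. -/
theorem coeff_mul_eq_sum [Fintype H] (x y : MonoidAlgebra K H) (g : H) :
    (x * y).coeff g = ∑ a : H, x.coeff a * y.coeff (a⁻¹ * g) := by
  rw [MonoidAlgebra.coeff_mul_apply_left, Finsupp.sum_fintype]
  intro a
  rw [zero_mul]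

omit [Finite H] in
theorem coeff_one_eq [DecidableEq H] (g : H) :
    (1 : MonoidAlgebra K H).coeff g = if g = 1 then 1 else 0 := by
  rw [MonoidAlgebra.one_def, MonoidAlgebra.coeff_single, Finsupp.single_apply]
  congr 1
  exact propext eq_comm

/-- The coefficients of `x` are constant on conjugacy classes. -/
def IsCls (x : MonoidAlgebra K H) : Prop := ∀ g h : H, x.coeff (h * g * h⁻¹) = x.coeff g

omit [Finite H] in
theorem isCls_add {x y : MonoidAlgebra K H} (hx : IsCls x) (hy : IsCls y) : IsCls (x + y) := by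
  intro g h
  simp only [MonoidAlgebra.coeff_add, Finsupp.add_apply, hx g h, hy g h]

omit [Finite H] in
theorem isCls_sub {x y : MonoidAlgebra K H} (hx : IsCls x) (hy : IsCls y) : IsCls (x - y) := by
  intro g h
  simp only [MonoidAlgebra.coeff_sub, Finsupp.sub_apply, hx g h, hy g h]

omit [Finite H] in
theorem isCls_smul {x : MonoidAlgebra K H} (hx : IsCls x) (c : K) : IsCls (c • x) := by
  intro g h
  simp only [MonoidAlgebra.coeff_smul, Finsupp.smul_apply, hx g h]

omit [Finite H] in
theorem isCls_zero : IsCls (0 : MonoidAlgebra K H) := by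
  intro g h
  simp

omit [Finite H] in
theorem isCls_one : IsCls (1 : MonoidAlgebra K H) := by
  classical
  intro g h
  rw [coeff_one_eq, coeff_one_eq, conj_eq_one_iff]

omit [Finite H] in
theorem isCls_sum {ι : Type*} {s : Finset ι} {f : ι → MonoidAlgebra K H}
    (h : ∀ i ∈ s, IsCls (f i)) : IsCls (∑ i ∈ s, f i) := by
  classical
  induction s using Finset.induction_on with
  | empty => simpa using isCls_zero
  | insert a s ha ih =>
    rw [Finset.sum_insert ha]
    exact isCls_add (h a (Finset.mem_insert_self _ _))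
      (ih fun i hi => h i (Finset.mem_insert_of_mem hi))

theorem isCls_mul {x y : MonoidAlgebra K H} (hx : IsCls x) (hy : IsCls y) : IsCls (x * y) := by
  have := Fintype.ofFinite H
  intro g h
  rw [coeff_mul_eq_sum, coeff_mul_eq_sum, ← (MulAut.conj h).toEquiv.sum_comp]
  refine Finset.sum_congr rfl fun a _ => ?_
  simp only [MulEquiv.toEquiv_eq_coe, EquivLike.coe_coe, MulAut.conj_apply]
  rw [hx a h]
  have : (h * a * h⁻¹)⁻¹ * (h * g * h⁻¹) = h * (a⁻¹ * g) * h⁻¹ := by group
  rw [this, hy]

theorem isCls_pow {x : MonoidAlgebra K H} (hx : IsCls x) (n : ℕ) : IsCls (x ^ n) := by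
  induction n with
  | zero => rw [pow_zero]; exact isCls_one
  | succ n ih => rw [pow_succ]; exact isCls_mul ih hx

/-- Class elements are central. -/
theorem isCls_comm {x : MonoidAlgebra K H} (hx : IsCls x) (y : MonoidAlgebra K H) :
    x * y = y * x := by
  have := Fintype.ofFinite H
  refine ext_coeff fun g => ?_
  rw [coeff_mul_eq_sum, coeff_mul_eq_sum, ← Equiv.sum_comp ((Equiv.inv H).trans
    (Equiv.mulLeft g))]
  refine Finset.sum_congr rfl fun a _ => ?_
  simp only [Equiv.trans_apply, Equiv.inv_apply, Equiv.coe_mulLeft, mul_inv_rev, inv_inv]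
  rw [inv_mul_cancel_right, mul_comm]
  congr 1
  rw [← hx (a⁻¹ * g) a]
  congr 1
  group

omit [Finite H] in
theorem isCls_of_comm {x : MonoidAlgebra K H} (hx : ∀ y : MonoidAlgebra K H, x * y = y * x) :
    IsCls x := by
  intro g h
  have h1 := congrArg (fun z => z.coeff (h * g)) (hx (MonoidAlgebra.single h 1))
  rw [MonoidAlgebra.coeff_mul_single_apply, MonoidAlgebra.coeff_single_mul_apply, mul_one,
    one_mul, inv_mul_cancel_left] at h1
  exact h1

theorem isCls_iff_mem_center {x : MonoidAlgebra K H} :
    IsCls x ↔ x ∈ Subalgebra.center K (MonoidAlgebra K H) := by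
  rw [Subalgebra.mem_center_iff]
  exact ⟨fun h y => (isCls_comm h y).symm, fun h => isCls_of_comm fun y => (h y).symm⟩

end Alg

section Red

variable {M : Ideal AlgInt} [M.IsPrime] {H : Type*} [Group H] [Finite H]

/-- Reduction of a complex-valued function. -/
noncomputable def toK (M : Ideal AlgInt) [M.IsPrime] (f : H → ℂ) : MonoidAlgebra (ResField M) H :=
  mkA fun g => redC M (f g)

@[simp]
theorem coeff_toK (f : H → ℂ) (g : H) : (toK M f).coeff g = redC M (f g) := rfl

theorem isCls_toK {f : H → ℂ} (hf : IsClassFunction H f) : IsCls (toK M f) := by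
  intro g h
  rw [coeff_toK, coeff_toK, hf]

theorem toK_add {f f' : H → ℂ} (hf : ∀ g, MemLocalRing M (f g)) (hf' : ∀ g, MemLocalRing M (f' g)) :
    toK M (f + f') = toK M f + toK M f' := by
  refine ext_coeff fun g => ?_
  rw [MonoidAlgebra.coeff_add, Finsupp.add_apply, coeff_toK, coeff_toK, coeff_toK, Pi.add_apply,
    redC_add (hf g) (hf' g)]

theorem toK_sub {f f' : H → ℂ} (hf : ∀ g, MemLocalRing M (f g)) (hf' : ∀ g, MemLocalRing M (f' g)) :
    toK M (f - f') = toK M f - toK M f' := by
  refine ext_coeff fun g => ?_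
  rw [MonoidAlgebra.coeff_sub, Finsupp.sub_apply, coeff_toK, coeff_toK, coeff_toK, Pi.sub_apply,
    redC_sub (hf g) (hf' g)]

theorem toK_smul {c : ℂ} (hc : MemLocalRing M c) {f : H → ℂ} (hf : ∀ g, MemLocalRing M (f g)) :
    toK M (c • f) = redC M c • toK M f := by
  refine ext_coeff fun g => ?_
  rw [MonoidAlgebra.coeff_smul, Finsupp.smul_apply, coeff_toK, coeff_toK, Pi.smul_apply,
    smul_eq_mul, smul_eq_mul, redC_mul hc (hf g)]

theorem toK_conv [Fintype H] {f f' : H → ℂ} (hf : ∀ g, MemLocalRing M (f g))
    (hf' : ∀ g, MemLocalRing M (f' g)) : toK M (conv f f') = toK M f * toK M f' := by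
  refine ext_coeff fun g => ?_
  rw [coeff_mul_eq_sum, coeff_toK, conv_apply,
    redC_sum (fun a _ => memLocalRing_mul (hf a) (hf' _))]
  refine Finset.sum_congr rfl fun a _ => ?_
  rw [redC_mul (hf a) (hf' _), coeff_toK, coeff_toK]

theorem toK_eq_toK {f f' : H → ℂ} (h : ∀ g, MemLocalIdeal M (f g - f' g))
    (hf : ∀ g, MemLocalRing M (f g)) (hf' : ∀ g, MemLocalRing M (f' g)) :
    toK M f = toK M f' := by
  refine ext_coeff fun g => ?_
  rw [coeff_toK, coeff_toK, redC_eq_iff (hf g) (hf' g)]
  exact h g

/-- Every class element is the reduction of a local-integral class function. -/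
theorem exists_toK {x : MonoidAlgebra (ResField M) H} (hx : IsCls x) :
    ∃ f : H → ℂ, IsClassFunction H f ∧ (∀ g, MemLocalRing M (f g)) ∧ toK M f = x := by
  have h1 : ∀ c : ResField M, ∃ z : ℂ, MemLocalRing M z ∧ redC M z = c := by
    intro c
    obtain ⟨⟨z, hz⟩, rfl⟩ := red_surjective c
    exact ⟨z, hz, redC_def hz⟩
  choose s hs hs' using h1
  refine ⟨fun g => s (x.coeff g), fun g h => ?_, fun g => hs _, ext_coeff fun g => ?_⟩
  · simp only [hx g h]
  · rw [coeff_toK, hs']

/-- A representative of a conjugacy class. -/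
noncomputable def crep (c : ConjClasses H) : H := Quotient.out c

omit [Finite H] in
theorem mk_crep (c : ConjClasses H) : ConjClasses.mk (crep c) = c := Quotient.out_eq c

omit [Finite H] in
theorem isConj_crep (g : H) : IsConj (crep (ConjClasses.mk g)) g := by
  rw [← ConjClasses.mk_eq_mk_iff_isConj, mk_crep]

/-- The central character of `χ` modulo `M`, as a linear form on the group algebra. -/
noncomputable def lam (M : Ideal AlgInt) [M.IsPrime] (χ : H → ℂ) :
    MonoidAlgebra (ResField M) H →ₗ[ResField M] ResField M :=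
  letI := Fintype.ofFinite (ConjClasses H)
  { toFun := fun x => ∑ c : ConjClasses H, x.coeff (crep c) *
      redC M (centralChar χ (crep c))
    map_add' := fun x y => by
      rw [← Finset.sum_add_distrib]
      refine Finset.sum_congr rfl fun c _ => ?_
      rw [MonoidAlgebra.coeff_add, Finsupp.add_apply, add_mul]
    map_smul' := fun a x => by
      rw [RingHom.id_apply, smul_eq_mul, Finset.mul_sum]
      refine Finset.sum_congr rfl fun c _ => ?_
      rw [MonoidAlgebra.coeff_smul, Finsupp.smul_apply, smul_eq_mul, mul_assoc] }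

theorem lam_apply [inst : Fintype (ConjClasses H)] (χ : H → ℂ)
    (x : MonoidAlgebra (ResField M) H) :
    lam M χ x = ∑ c : ConjClasses H, x.coeff (crep c) *
      redC M (centralChar χ (crep c)) := by
  have : inst = Fintype.ofFinite (ConjClasses H) := Subsingleton.elim _ _
  subst this
  rfl

omit [Finite H] in
/-- The central character of a class function as a sum over classes. -/
theorem omega_eq_sum [Fintype H] [Fintype (ConjClasses H)] {χ f : H → ℂ}
    (hχ : IsIrrCharacter H χ) (hf : IsClassFunction H f) :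
    omega χ f = ∑ c : ConjClasses H, f (crep c) * centralChar χ (crep c) := by
  classical
  have hfib : ∀ c : ConjClasses H, ∑ g ∈ Finset.univ.filter (fun g => ConjClasses.mk g = c),
      f g * χ g = f (crep c) * (centralChar χ (crep c) * χ 1) := by
    intro c
    set y : H := crep c with hy
    have hyc : ConjClasses.mk y = c := mk_crep c
    have h1 := lin_classInd (isClassFunction_irr hχ) y
    rw [div_eq_iff (irr_one_ne_zero hχ), lin_def] at h1
    rw [← h1, Finset.mul_sum, Finset.sum_filter]
    refine Finset.sum_congr rfl fun g _ => ?_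
    by_cases hg : ConjClasses.mk g = c
    · rw [if_pos hg]
      have hyg : IsConj y g := by
        rw [← ConjClasses.mk_eq_mk_iff_isConj, hyc, hg]
      obtain ⟨t, ht⟩ := isConj_iff.1 hyg
      rw [classInd_of_isConj hyg, ← ht, hf]
      simp
    · rw [if_neg hg]
      have hyg : ¬ IsConj y g := by
        rw [← ConjClasses.mk_eq_mk_iff_isConj, hyc]
        exact fun h => hg h.symm
      rw [classInd_of_not hyg]
      simp
  have h2 : lin χ f = (∑ c : ConjClasses H, f (crep c) *
      centralChar χ (crep c)) * χ 1 := by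
    rw [lin_def, ← Finset.sum_fiberwise (s := (Finset.univ : Finset H))
      (g := fun g => ConjClasses.mk g), Finset.sum_mul]
    refine Finset.sum_congr rfl fun c _ => ?_
    rw [hfib c]
    ring
  rw [omega_def, h2, mul_div_cancel_right₀ _ (irr_one_ne_zero hχ)]

/-- The central character modulo `M` of the reduction of a class function. -/
theorem lam_toK [Fintype H] {χ f : H → ℂ} (hχ : IsIrrCharacter H χ) (hf : IsClassFunction H f)
    (hfR : ∀ g, MemLocalRing M (f g)) : lam M χ (toK M f) = redC M (omega χ f) := by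
  classical
  have := Fintype.ofFinite (ConjClasses H)
  rw [lam_apply, omega_eq_sum hχ hf, redC_sum (fun c _ => memLocalRing_mul (hfR _)
    (memLocalRing_of_isIntegral (isIntegral_centralChar hχ _)))]
  refine Finset.sum_congr rfl fun c _ => ?_
  rw [redC_mul (hfR _) (memLocalRing_of_isIntegral (isIntegral_centralChar hχ _)), coeff_toK]

/-- Central characters modulo `M` are multiplicative on class elements. -/
theorem lam_mul (χ : IrrCharacter H) {x y : MonoidAlgebra (ResField M) H} (hx : IsCls x)
    (hy : IsCls y) : lam M (χ : H → ℂ) (x * y) = lam M (χ : H → ℂ) x * lam M (χ : H → ℂ) y := by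
  have := Fintype.ofFinite H
  obtain ⟨f, hf, hfR, rfl⟩ := exists_toK hx
  obtain ⟨f', hf', hfR', rfl⟩ := exists_toK hy
  rw [← toK_conv hfR hfR', lam_toK χ.2 (isClassFunction_conv hf hf')
    (memLocalRing_conv hfR hfR'), lam_toK χ.2 hf hfR, lam_toK χ.2 hf' hfR', omega_conv χ.2 hf,
    redC_mul (memLocalRing_omega χ.2 hf hfR) (memLocalRing_omega χ.2 hf' hfR')]

theorem toK_delta [Fintype H] : toK M (delta : H → ℂ) = 1 := by
  classical
  refine ext_coeff fun g => ?_
  rw [coeff_toK, coeff_one_eq]
  by_cases hg : g = 1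
  · rw [if_pos hg, hg, delta_one, redC_one]
  · rw [if_neg hg, delta_ne hg, redC_zero]

theorem lam_one (χ : IrrCharacter H) : lam M (χ : H → ℂ) 1 = 1 := by
  have := Fintype.ofFinite H
  rw [← toK_delta, lam_toK χ.2 isClassFunction_delta memLocalRing_delta,
    omega_delta (irr_one_ne_zero χ.2), redC_one]

theorem lam_pow (χ : IrrCharacter H) {x : MonoidAlgebra (ResField M) H} (hx : IsCls x) (n : ℕ) :
    lam M (χ : H → ℂ) (x ^ n) = lam M (χ : H → ℂ) x ^ n := by
  induction n with
  | zero => rw [pow_zero, pow_zero, lam_one]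
  | succ n ih => rw [pow_succ, pow_succ, lam_mul χ (isCls_pow hx n) hx, ih]

open Classical in
/-- The class sum of `g` in the group algebra over `K`. -/
noncomputable def clsSum (M : Ideal AlgInt) [M.IsPrime] (g : H) :
    MonoidAlgebra (ResField M) H := mkA fun x => if IsConj g x then 1 else 0

open Classical in
theorem coeff_clsSum (g x : H) : (clsSum M g).coeff x = if IsConj g x then 1 else 0 := rfl

theorem clsSum_eq_toK [Fintype H] (g : H) :
    clsSum M g = toK M fun x => (classInd g x : ℂ) := by
  refine ext_coeff fun x => ?_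
  rw [coeff_clsSum, coeff_toK]
  by_cases hx : IsConj g x
  · rw [if_pos hx, classInd_of_isConj hx, Int.cast_one, redC_one]
  · rw [if_neg hx, classInd_of_not hx, Int.cast_zero, redC_zero]

theorem isCls_clsSum (g : H) : IsCls (clsSum M g) := by
  have := Fintype.ofFinite H
  rw [clsSum_eq_toK]
  exact isCls_toK (isClassFunction_classInd g)

theorem lam_clsSum (χ : IrrCharacter H) (g : H) :
    lam M (χ : H → ℂ) (clsSum M g) = redC M (centralChar (χ : H → ℂ) g) := by
  have := Fintype.ofFinite H
  rw [clsSum_eq_toK, lam_toK χ.2 (isClassFunction_classInd g) (fun x => memLocalRing_intCast _),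
    omega_classInd χ.2]

/-- Two irreducible characters are in the same block iff their central characters agree. -/
theorem lam_eq_iff_sameBlock (χ ψ : IrrCharacter H) :
    lam M (χ : H → ℂ) = lam M (ψ : H → ℂ) ↔ SameBlock M (χ : H → ℂ) (ψ : H → ℂ) := by
  have := Fintype.ofFinite H
  have hint : ∀ (χ : IrrCharacter H) (g : H), MemLocalRing M (centralChar (χ : H → ℂ) g) :=
    fun χ g => memLocalRing_of_isIntegral (isIntegral_centralChar χ.2 g)
  constructor
  · intro h g
    rw [← redC_eq_iff (hint χ g) (hint ψ g), ← lam_clsSum, ← lam_clsSum, h]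
  · intro h
    have := Fintype.ofFinite (ConjClasses H)
    refine LinearMap.ext fun x => ?_
    rw [lam_apply, lam_apply]
    refine Finset.sum_congr rfl fun c _ => ?_
    rw [(redC_eq_iff (hint χ _) (hint ψ _)).2 (h _)]

theorem lam_eq_of_mem {B : Set (IrrCharacter H)} (hB : IsPBlock M B) {χ ψ : IrrCharacter H}
    (hχ : χ ∈ B) (hψ : ψ ∈ B) : lam M (χ : H → ℂ) = lam M (ψ : H → ℂ) :=
  (lam_eq_iff_sameBlock χ ψ).2 (isPBlock_sameBlock hB hχ hψ)

/-- A class element killed by all central characters modulo `M` is nilpotent, with an exponent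
not depending on it. -/
theorem pow_eq_zero_of_lam {x : MonoidAlgebra (ResField M) H} (hx : IsCls x)
    (h : ∀ χ : IrrCharacter H, lam M (χ : H → ℂ) x = 0) : x ^ Nat.card (IrrCharacter H) = 0 := by
  classical
  have := Fintype.ofFinite H
  have hfin : Finite (IrrCharacter H) := Cfsg.Agent.Characters.Core.finite_irr
  have : Fintype (IrrCharacter H) := Fintype.ofFinite _
  obtain ⟨z, hz, hzR, rfl⟩ := exists_toK hx
  have hc : ∀ χ : IrrCharacter H, MemLocalIdeal M (omega (χ : H → ℂ) z) := by
    intro χ
    rw [← redC_eq_zero_iff (memLocalRing_omega χ.2 hz hzR), ← lam_toK χ.2 hz hzR]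
    exact h χ
  have key : ∀ T : Finset (IrrCharacter H), ∃ f : H → ℂ, IsClassFunction H f ∧
      (∀ g, MemLocalRing M (f g)) ∧ toK M f = toK M z ^ T.card ∧
      ∀ χ ∈ T, omega (χ : H → ℂ) f = 0 := by
    intro T
    induction T using Finset.induction_on with
    | empty =>
      refine ⟨delta, isClassFunction_delta, memLocalRing_delta, ?_, by simp⟩
      rw [Finset.card_empty, pow_zero, toK_delta]
    | insert χ T hχT ih =>
      obtain ⟨f, hf, hfR, hfz, hfT⟩ := ih
      have hcR := memLocalRing_of_memLocalIdeal (hc χ)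
      have hsR : ∀ g, MemLocalRing M ((omega (χ : H → ℂ) z • f) g) := fun g =>
        memLocalRing_mul hcR (hfR g)
      refine ⟨conv z f - omega (χ : H → ℂ) z • f, isClassFunction_sub (isClassFunction_conv hz hf)
        (isClassFunction_smul hf _), fun g => memLocalRing_sub (memLocalRing_conv hzR hfR g)
          (hsR g), ?_, ?_⟩
      · rw [toK_sub (memLocalRing_conv hzR hfR) hsR, toK_conv hzR hfR, toK_smul hcR hfR,
          (redC_eq_zero_iff hcR).2 (hc χ), zero_smul, sub_zero, hfz, Finset.card_insert_of_notMem hχT,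
          pow_succ']
      · intro ψ hψ
        rw [omega_sub, omega_smul, omega_conv ψ.2 hz]
        rcases Finset.mem_insert.1 hψ with rfl | hψT
        · rw [sub_self]
        · rw [hfT ψ hψT, mul_zero, mul_zero, sub_zero]
  obtain ⟨f, hf, -, hfz, hfT⟩ := key Finset.univ
  have hf0 : f = 0 := eq_zero_of_omega hf fun χ hχ => hfT ⟨χ, hχ⟩ (Finset.mem_univ _)
  rw [Nat.card_eq_fintype_card, ← Finset.card_univ, ← hfz, hf0]
  refine ext_coeff fun g => ?_
  rw [coeff_toK, Pi.zero_apply, redC_zero, MonoidAlgebra.coeff_zero, Finsupp.zero_apply]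

theorem isNilpotent_of_lam {x : MonoidAlgebra (ResField M) H} (hx : IsCls x)
    (h : ∀ χ : IrrCharacter H, lam M (χ : H → ℂ) x = 0) : IsNilpotent x :=
  ⟨_, pow_eq_zero_of_lam hx h⟩

/-- A central idempotent killed by all central characters is zero. -/
theorem eq_zero_of_lam {e : MonoidAlgebra (ResField M) H} (he : IsCls e) (hee : e * e = e)
    (h : ∀ χ : IrrCharacter H, lam M (χ : H → ℂ) e = 0) : e = 0 := by
  obtain ⟨n, hn⟩ := isNilpotent_of_lam he h
  have h1 : ∀ n : ℕ, e ^ (n + 1) = e := by
    intro n
    induction n with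
    | zero => rw [zero_add, pow_one]
    | succ n ih => rw [pow_succ, ih, hee]
  rw [← h1 n, pow_succ, hn, zero_mul]

/-- Central idempotents are determined by the central characters. -/
theorem eq_of_lam {e e' : MonoidAlgebra (ResField M) H} (he : IsCls e) (hee : e * e = e)
    (he' : IsCls e') (hee' : e' * e' = e')
    (h : ∀ χ : IrrCharacter H, lam M (χ : H → ℂ) e = lam M (χ : H → ℂ) e') : e = e' := by
  have key : ∀ {e e' : MonoidAlgebra (ResField M) H}, IsCls e → e * e = e → IsCls e' →
      e' * e' = e' → (∀ χ : IrrCharacter H, lam M (χ : H → ℂ) e = lam M (χ : H → ℂ) e') →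
      e = e * e' := by
    intro e e' he hee he' hee' h
    have hc := isCls_comm he e'
    have h1 : e - e * e' = 0 := by
      refine eq_zero_of_lam (isCls_sub he (isCls_mul he he')) ?_ fun χ => ?_
      · rw [mul_sub, sub_mul, sub_mul, hee]
        have h2 : e * e' * e = e * e' := by rw [mul_assoc, ← hc, ← mul_assoc, hee]
        have h3 : e * (e * e') = e * e' := by rw [← mul_assoc, hee]
        have h4 : e * e' * (e * e') = e * e' := by
          rw [← mul_assoc, h2, mul_assoc, hee']
        rw [h2, h3, h4]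
        simp
      · rw [map_sub, lam_mul χ he he', h χ, sub_eq_zero, ← lam_mul χ he' he', hee']
    exact sub_eq_zero.1 h1
  rw [key he hee he' hee' h, isCls_comm he e', ← key he' hee' he hee fun χ => (h χ).symm]

/-! ### Idempotents of unions of blocks -/

/-- `S` is a union of blocks. -/
def IsUnion (M : Ideal AlgInt) (S : Set (IrrCharacter H)) : Prop :=
  ∀ χ ∈ S, ∀ ψ : IrrCharacter H, SameBlock M (χ : H → ℂ) (ψ : H → ℂ) → ψ ∈ S

omit [Finite H] in
theorem isUnion_of_isPBlock {B : Set (IrrCharacter H)} (hB : IsPBlock M B) : IsUnion M B :=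
  fun _ hχ _ h => isPBlock_mem_of_sameBlock hB hχ h

omit [Finite H] in
theorem isUnion_univ : IsUnion M (Set.univ : Set (IrrCharacter H)) := fun _ _ _ _ => trivial

omit [Finite H] in
theorem isUnion_inter {S T : Set (IrrCharacter H)} (hS : IsUnion M S) (hT : IsUnion M T) :
    IsUnion M (S ∩ T) := fun χ hχ ψ h => ⟨hS χ hχ.1 ψ h, hT χ hχ.2 ψ h⟩

omit [Finite H] in
theorem isUnion_union {S T : Set (IrrCharacter H)} (hS : IsUnion M S) (hT : IsUnion M T) :
    IsUnion M (S ∪ T) := by
  rintro χ (hχ | hχ) ψ h
  · exact Or.inl (hS χ hχ ψ h)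
  · exact Or.inr (hT χ hχ ψ h)

/-- The reduction of the idempotent of a set of irreducible characters. -/
noncomputable def idem (M : Ideal AlgInt) [M.IsPrime] (S : Set (IrrCharacter H)) :
    MonoidAlgebra (ResField M) H := toK M (blockCoeff S)

theorem coeff_idem (S : Set (IrrCharacter H)) (g : H) :
    (idem M S).coeff g = redC M (blockCoeff S g) := rfl

theorem isCls_idem (S : Set (IrrCharacter H)) : IsCls (idem M S) := by
  have := Fintype.ofFinite H
  exact isCls_toK (isClassFunction_blockCoeff S)

variable {p : ℕ}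

theorem memLocalRing_blockCoeff (hM : IsPModular p M) {S : Set (IrrCharacter H)}
    (hS : IsUnion M S) (g : H) : MemLocalRing M (blockCoeff S g) := by
  have : Fact p.Prime := ⟨hM.1⟩
  exact Cfsg.Agent.Blocks.OsimaUnion.memLocalRing_blockCoeff_union p hM S hS g

open Classical in
theorem lam_idem (hM : IsPModular p M) {S : Set (IrrCharacter H)} (hS : IsUnion M S)
    (χ : IrrCharacter H) : lam M (χ : H → ℂ) (idem M S) = if χ ∈ S then 1 else 0 := by
  have := Fintype.ofFinite H
  rw [idem, lam_toK χ.2 (isClassFunction_blockCoeff S) (memLocalRing_blockCoeff hM hS),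
    omega_blockCoeff]
  split_ifs
  · exact redC_one
  · exact redC_zero

theorem lam_idem_of_mem (hM : IsPModular p M) {S : Set (IrrCharacter H)} (hS : IsUnion M S)
    {χ : IrrCharacter H} (hχ : χ ∈ S) : lam M (χ : H → ℂ) (idem M S) = 1 := by
  classical
  rw [lam_idem hM hS, if_pos hχ]

theorem lam_idem_of_notMem (hM : IsPModular p M) {S : Set (IrrCharacter H)} (hS : IsUnion M S)
    {χ : IrrCharacter H} (hχ : χ ∉ S) : lam M (χ : H → ℂ) (idem M S) = 0 := by
  classical
  rw [lam_idem hM hS, if_neg hχ]

theorem lam_idem_eq_one_iff (hM : IsPModular p M) {S : Set (IrrCharacter H)} (hS : IsUnion M S)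
    {χ : IrrCharacter H} : lam M (χ : H → ℂ) (idem M S) = 1 ↔ χ ∈ S := by
  classical
  rw [lam_idem hM hS]
  split_ifs with h
  · simp [h]
  · simp [h]

theorem idem_mul_self (hM : IsPModular p M) {S : Set (IrrCharacter H)} (hS : IsUnion M S) :
    idem M S * idem M S = idem M S := by
  classical
  have := Fintype.ofFinite H
  rw [idem, ← toK_conv (memLocalRing_blockCoeff hM hS) (memLocalRing_blockCoeff hM hS)]
  congr 1
  refine eq_of_omega (isClassFunction_conv (isClassFunction_blockCoeff S)
    (isClassFunction_blockCoeff S)) (isClassFunction_blockCoeff S) fun χ hχ => ?_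
  rw [omega_conv hχ (isClassFunction_blockCoeff S)]
  have h1 := omega_blockCoeff S ⟨χ, hχ⟩
  simp only at h1
  rw [h1]
  split_ifs <;> simp

theorem idem_mul_idem (hM : IsPModular p M) {S T : Set (IrrCharacter H)} (hS : IsUnion M S)
    (hT : IsUnion M T) : idem M S * idem M T = idem M (S ∩ T) := by
  classical
  have hc := isCls_comm (isCls_idem (M := M) S) (idem M T)
  refine eq_of_lam (isCls_mul (isCls_idem S) (isCls_idem T)) ?_ (isCls_idem _)
    (idem_mul_self hM (isUnion_inter hS hT)) fun χ => ?_
  · rw [← mul_assoc, mul_assoc (idem M S) (idem M T) (idem M S), ← hc, ← mul_assoc,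
      idem_mul_self hM hS, mul_assoc, idem_mul_self hM hT]
  · rw [lam_mul χ (isCls_idem S) (isCls_idem T), lam_idem hM hS, lam_idem hM hT,
      lam_idem hM (isUnion_inter hS hT)]
    by_cases h1 : χ ∈ S <;> by_cases h2 : χ ∈ T <;> simp [h1, h2]

theorem idem_empty : idem M (∅ : Set (IrrCharacter H)) = 0 := by
  refine ext_coeff fun g => ?_
  rw [coeff_idem, Cfsg.Agent.Blocks.Basic.blockCoeff_def]
  simp [redC_zero]

theorem idem_mul_idem_of_ne (hM : IsPModular p M) {B B' : Set (IrrCharacter H)}
    (hB : IsPBlock M B) (hB' : IsPBlock M B') (hne : B ≠ B') : idem M B * idem M B' = 0 := by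
  rw [idem_mul_idem hM (isUnion_of_isPBlock hB) (isUnion_of_isPBlock hB')]
  have h1 : B ∩ B' = ∅ := by
    rw [Set.eq_empty_iff_forall_notMem]
    rintro χ ⟨h1, h2⟩
    exact hne (isPBlock_eq_of_mem hB hB' h1 h2)
  rw [h1, idem_empty]

theorem idem_univ (hM : IsPModular p M) : idem M (Set.univ : Set (IrrCharacter H)) = 1 := by
  refine eq_of_lam (isCls_idem _) (idem_mul_self hM isUnion_univ) isCls_one (mul_one 1) fun χ => ?_
  rw [lam_idem_of_mem hM isUnion_univ (Set.mem_univ χ), lam_one]

theorem idem_union (hM : IsPModular p M) {S T : Set (IrrCharacter H)} (hS : IsUnion M S)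
    (hT : IsUnion M T) (hST : Disjoint S T) : idem M (S ∪ T) = idem M S + idem M T := by
  classical
  have h0 : idem M S * idem M T = 0 := by
    rw [idem_mul_idem hM hS hT, hST.inter_eq, idem_empty]
  have h0' : idem M T * idem M S = 0 := by rw [← isCls_comm (isCls_idem S), h0]
  refine eq_of_lam (isCls_idem _) (idem_mul_self hM (isUnion_union hS hT))
    (isCls_add (isCls_idem S) (isCls_idem T)) ?_ fun χ => ?_
  · rw [mul_add, add_mul, add_mul, h0, h0', idem_mul_self hM hS, idem_mul_self hM hT, add_zero,
      zero_add]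
  · rw [map_add, lam_idem hM hS, lam_idem hM hT, lam_idem hM (isUnion_union hS hT)]
    by_cases h1 : χ ∈ S
    · have h2 : χ ∉ T := fun h2 => Set.disjoint_left.1 hST h1 h2
      simp [h1, h2]
    · simp [h1]

theorem idem_ne_zero (hM : IsPModular p M) {S : Set (IrrCharacter H)} (hS : IsUnion M S)
    (hne : S.Nonempty) : idem M S ≠ 0 := by
  obtain ⟨χ, hχ⟩ := hne
  intro h
  have h1 := lam_idem_of_mem hM hS hχ
  rw [h, map_zero] at h1
  exact zero_ne_one h1

/-- Unions of blocks are determined by their idempotents. -/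
theorem idem_injective (hM : IsPModular p M) {S T : Set (IrrCharacter H)} (hS : IsUnion M S)
    (hT : IsUnion M T) (h : idem M S = idem M T) : S = T := by
  ext χ
  rw [← lam_idem_eq_one_iff hM hS, h, lam_idem_eq_one_iff hM hT]

/-- The set of irreducible characters on which a central idempotent takes the value one. -/
def suppSet (M : Ideal AlgInt) [M.IsPrime] (e : MonoidAlgebra (ResField M) H) :
    Set (IrrCharacter H) := {χ | lam M (χ : H → ℂ) e = 1}

theorem isUnion_suppSet (e : MonoidAlgebra (ResField M) H) : IsUnion M (suppSet M e) := by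
  intro χ hχ ψ h
  change lam M (ψ : H → ℂ) e = 1
  rw [← (lam_eq_iff_sameBlock χ ψ).2 h]
  exact hχ

/-- The value of a central character at a central idempotent is zero or one. -/
theorem lam_idempotent (χ : IrrCharacter H) {e : MonoidAlgebra (ResField M) H} (he : IsCls e)
    (hee : e * e = e) : lam M (χ : H → ℂ) e = 0 ∨ lam M (χ : H → ℂ) e = 1 := by
  have h1 : lam M (χ : H → ℂ) e * lam M (χ : H → ℂ) e = lam M (χ : H → ℂ) e := by
    rw [← lam_mul χ he he, hee]
  have h2 : lam M (χ : H → ℂ) e * (lam M (χ : H → ℂ) e - 1) = 0 := by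
    rw [mul_sub, h1, mul_one, sub_self]
  rcases mul_eq_zero.1 h2 with h | h
  · exact Or.inl h
  · exact Or.inr (sub_eq_zero.1 h)

/-- Every central idempotent is the idempotent of a union of blocks. -/
theorem eq_idem_suppSet (hM : IsPModular p M) {e : MonoidAlgebra (ResField M) H} (he : IsCls e)
    (hee : e * e = e) : e = idem M (suppSet M e) := by
  refine eq_of_lam he hee (isCls_idem _) (idem_mul_self hM (isUnion_suppSet e)) fun χ => ?_
  by_cases hχ : χ ∈ suppSet M e
  · rw [lam_idem_of_mem hM (isUnion_suppSet e) hχ]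
    exact hχ
  · rw [lam_idem_of_notMem hM (isUnion_suppSet e) hχ]
    exact (lam_idempotent χ he hee).resolve_right hχ

/-- A nonzero central idempotent takes the value one at some central character. -/
theorem exists_lam_eq_one {e : MonoidAlgebra (ResField M) H} (he : IsCls e)
    (hee : e * e = e) (hne : e ≠ 0) : ∃ χ : IrrCharacter H, lam M (χ : H → ℂ) e = 1 := by
  by_contra hcon
  push Not at hcon
  exact hne (eq_zero_of_lam he hee fun χ => (lam_idempotent χ he hee).resolve_right (hcon χ))

theorem mul_idem_of_lam_eq_one (hM : IsPModular p M) {e : MonoidAlgebra (ResField M) H}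
    (he : IsCls e) (hee : e * e = e) {B : Set (IrrCharacter H)} (hB : IsUnion M B)
    (h : ∀ χ ∈ B, lam M (χ : H → ℂ) e = 1) : e * idem M B = idem M B := by
  rw [eq_idem_suppSet hM he hee, idem_mul_idem hM (isUnion_suppSet e) hB]
  congr 1
  exact Set.inter_eq_right.2 h

theorem mul_idem_of_lam_eq_zero (hM : IsPModular p M) {e : MonoidAlgebra (ResField M) H}
    (he : IsCls e) (hee : e * e = e) {B : Set (IrrCharacter H)} (hB : IsUnion M B)
    (h : ∀ χ ∈ B, lam M (χ : H → ℂ) e = 0) : e * idem M B = 0 := by
  rw [eq_idem_suppSet hM he hee, idem_mul_idem hM (isUnion_suppSet e) hB]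
  have h1 : suppSet M e ∩ B = ∅ := by
    rw [Set.eq_empty_iff_forall_notMem]
    rintro χ ⟨h1, h2⟩
    have h1' : lam M (χ : H → ℂ) e = 1 := h1
    rw [h χ h2] at h1'
    exact zero_ne_one h1'
  rw [h1, idem_empty]

/-- On a block, an element of central character zero is nilpotent. -/
theorem mul_idem_pow_eq_zero (hM : IsPModular p M) {x : MonoidAlgebra (ResField M) H}
    (hx : IsCls x) {B : Set (IrrCharacter H)} (hB : IsUnion M B)
    (h : ∀ χ ∈ B, lam M (χ : H → ℂ) x = 0) :
    x ^ Nat.card (IrrCharacter H) * idem M B = 0 := by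
  have hfin : Finite (IrrCharacter H) := Cfsg.Agent.Characters.Core.finite_irr
  have hpos : ∀ n : ℕ, idem M B ^ (n + 1) = idem M B := by
    intro n
    induction n with
    | zero => rw [zero_add, pow_one]
    | succ n ih => rw [pow_succ, ih, idem_mul_self hM hB]
  have h1 : (x * idem M B) ^ Nat.card (IrrCharacter H) = 0 := by
    refine pow_eq_zero_of_lam (isCls_mul hx (isCls_idem B)) fun χ => ?_
    rw [lam_mul χ hx (isCls_idem B)]
    by_cases hχ : χ ∈ B
    · rw [h χ hχ, zero_mul]
    · rw [lam_idem_of_notMem hM hB hχ, mul_zero]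
  have hcomm : Commute x (idem M B) := isCls_comm hx _
  rw [hcomm.mul_pow] at h1
  have hne : Nat.card (IrrCharacter H) ≠ 0 := by
    have : Nonempty (IrrCharacter H) := ⟨⟨_, Cfsg.Agent.Blocks.Basic.isIrrCharacter_one⟩⟩
    exact Nat.card_pos.ne'
  obtain ⟨n, hn⟩ := Nat.exists_eq_succ_of_ne_zero hne
  rw [hn] at h1 ⊢
  rw [Nat.succ_eq_add_one, hpos] at h1
  exact h1

/-- A central element with nonzero central character on the block `B` is invertible on `B`. -/
theorem exists_inv_of_lam (hM : IsPModular p M) {x : MonoidAlgebra (ResField M) H}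
    (hx : IsCls x) {B : Set (IrrCharacter H)} (hB : IsPBlock M B) {χ : IrrCharacter H}
    (hχ : χ ∈ B) (h : lam M (χ : H → ℂ) x ≠ 0) :
    ∃ w : MonoidAlgebra (ResField M) H, IsCls w ∧ x * w * idem M B = idem M B := by
  set c := (lam M (χ : H → ℂ) x)⁻¹ with hc
  set y : MonoidAlgebra (ResField M) H := 1 - c • x with hy
  have hcx := isCls_smul hx c
  have hyc : IsCls y := isCls_sub isCls_one hcx
  have hU := isUnion_of_isPBlock hB
  have hy0 : ∀ ψ ∈ B, lam M (ψ : H → ℂ) y = 0 := by
    intro ψ hψ
    rw [hy, map_sub, map_smul, lam_one, lam_eq_of_mem hB hψ hχ, smul_eq_mul, hc,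
      inv_mul_cancel₀ h, sub_self]
  set n := Nat.card (IrrCharacter H)
  have h1 : y ^ n * idem M B = 0 := mul_idem_pow_eq_zero hM hyc hU hy0
  refine ⟨c • ∑ i ∈ Finset.range n, y ^ i,
    isCls_smul (isCls_sum fun i _ => isCls_pow hyc i) c, ?_⟩
  have h2 : (1 - y) * ∑ i ∈ Finset.range n, y ^ i = 1 - y ^ n := by
    have := mul_geom_sum y n
    rw [← neg_sub y 1, neg_mul, this, neg_sub]
  have h3 : (1 : MonoidAlgebra (ResField M) H) - y = c • x := by rw [hy, sub_sub_cancel]
  rw [h3] at h2
  rw [mul_smul_comm, ← smul_mul_assoc, h2, sub_mul, one_mul, h1, sub_zero]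

/-! ### The set of blocks -/

/-- The type of blocks of `H`. -/
abbrev Blk (M : Ideal AlgInt) (H : Type*) [Group H] : Type _ :=
  {B : Set (IrrCharacter H) // IsPBlock M B}

instance finite_blk : Finite (Blk M H) := by
  have hfin : Finite (IrrCharacter H) := Cfsg.Agent.Characters.Core.finite_irr
  exact Subtype.finite

/-- The block of an irreducible character. -/
def blkOf (M : Ideal AlgInt) (χ : IrrCharacter H) : Blk M H := ⟨blockOf M (χ : H → ℂ), ⟨χ, rfl⟩⟩

omit [Finite H] in
theorem mem_blkOf (χ : IrrCharacter H) : χ ∈ (blkOf M χ).1 := mem_blockOf_self χ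

/-- The idempotents of the blocks in a finite set add up to the idempotent of the union. -/
theorem sum_idem_eq_idem (hM : IsPModular p M) (T : Finset (Blk M H)) :
    ∑ B ∈ T, idem M B.1 = idem M {χ | ∃ B ∈ T, χ ∈ B.1} := by
  classical
  have hU : IsUnion M {χ : IrrCharacter H | ∃ B ∈ T, χ ∈ B.1} := by
    rintro χ ⟨B, hB, hχ⟩ ψ h
    exact ⟨B, hB, isUnion_of_isPBlock B.2 χ hχ ψ h⟩
  refine eq_of_lam (isCls_sum fun B _ => isCls_idem _) ?_ (isCls_idem _)
    (idem_mul_self hM hU) fun χ => ?_
  · rw [Finset.sum_mul_sum]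
    refine Finset.sum_congr rfl fun B hB => ?_
    rw [Finset.sum_eq_single B]
    · exact idem_mul_self hM (isUnion_of_isPBlock B.2)
    · intro B' _ hne
      exact idem_mul_idem_of_ne hM B.2 B'.2 fun h => hne (Subtype.ext h.symm)
    · exact fun h => absurd hB h
  · rw [map_sum]
    by_cases hχ : χ ∈ {χ : IrrCharacter H | ∃ B ∈ T, χ ∈ B.1}
    · rw [lam_idem_of_mem hM hU hχ]
      obtain ⟨B, hB, hχB⟩ := hχ
      rw [Finset.sum_eq_single B]
      · exact lam_idem_of_mem hM (isUnion_of_isPBlock B.2) hχB
      · intro B' _ hne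
        exact lam_idem_of_notMem hM (isUnion_of_isPBlock B'.2) fun h =>
          hne (Subtype.ext (isPBlock_eq_of_mem B'.2 B.2 h hχB))
      · exact fun h => absurd hB h
    · rw [lam_idem_of_notMem hM hU hχ]
      refine Finset.sum_eq_zero fun B hB => ?_
      exact lam_idem_of_notMem hM (isUnion_of_isPBlock B.2) fun h => hχ ⟨B, hB, h⟩

/-- `1` is the sum of the block idempotents. -/
theorem sum_idem_eq_one (hM : IsPModular p M) [Fintype (Blk M H)] :
    ∑ B : Blk M H, idem M B.1 = 1 := by
  rw [sum_idem_eq_idem hM, ← idem_univ hM]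
  congr 1
  ext χ
  simp only [Finset.mem_univ, true_and, Set.mem_ofPred_eq, Set.mem_univ, iff_true]
  exact ⟨blkOf M χ, mem_blkOf χ⟩

/-- Every element is the sum of its components in the blocks. -/
theorem eq_sum_mul_idem (hM : IsPModular p M) [Fintype (Blk M H)]
    (x : MonoidAlgebra (ResField M) H) : x = ∑ B : Blk M H, x * idem M B.1 := by
  rw [← Finset.mul_sum, sum_idem_eq_one hM, mul_one]

/-- A functional on the group algebra that is multiplicative on class elements and takes the value
one at `1` is the central character of a unique block (on class elements). -/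
theorem exists_block_of_functional (hM : IsPModular p M)
    (L : MonoidAlgebra (ResField M) H →ₗ[ResField M] ResField M)
    (hmul : ∀ x y, IsCls x → IsCls y → L (x * y) = L x * L y) (hone : L 1 = 1) :
    ∃ B : Set (IrrCharacter H), IsPBlock M B ∧ L (idem M B) = 1 ∧
      (∀ B' : Set (IrrCharacter H), IsPBlock M B' → L (idem M B') = 1 → B' = B) ∧
      ∀ χ ∈ B, ∀ x, IsCls x → L x = lam M (χ : H → ℂ) x := by
  classical
  have := Fintype.ofFinite (Blk M H)
  have h1 : ∑ B : Blk M H, L (idem M B.1) = 1 := by
    rw [← map_sum, sum_idem_eq_one hM, hone]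
  obtain ⟨B, hB⟩ : ∃ B : Blk M H, L (idem M B.1) ≠ 0 := by
    by_contra hcon
    push Not at hcon
    rw [Finset.sum_eq_zero fun B _ => hcon B] at h1
    exact zero_ne_one h1
  have hB1 : L (idem M B.1) = 1 := by
    have h2 := hmul _ _ (isCls_idem (M := M) B.1) (isCls_idem (M := M) B.1)
    rw [idem_mul_self hM (isUnion_of_isPBlock B.2)] at h2
    exact mul_right_cancel₀ hB (by rw [one_mul]; exact h2.symm)
  refine ⟨B.1, B.2, hB1, ?_, ?_⟩
  · intro B' hB' h'
    by_contra hne
    have h3 := hmul _ _ (isCls_idem (M := M) B') (isCls_idem (M := M) B.1)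
    rw [idem_mul_idem_of_ne hM hB' B.2 hne, map_zero, h', hB1, mul_one] at h3
    exact zero_ne_one h3
  · intro χ hχ x hx
    set y := x - lam M (χ : H → ℂ) x • 1 with hy
    have hyc : IsCls y := isCls_sub hx (isCls_smul isCls_one _)
    have hy0 : ∀ ψ ∈ B.1, lam M (ψ : H → ℂ) y = 0 := by
      intro ψ hψ
      rw [hy, map_sub, map_smul, lam_one, lam_eq_of_mem B.2 hψ hχ, smul_eq_mul, mul_one, sub_self]
    have h4 := mul_idem_pow_eq_zero hM hyc (isUnion_of_isPBlock B.2) hy0
    have h5 : ∀ n : ℕ, L (y ^ n) = L y ^ n := by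
      intro n
      induction n with
      | zero => rw [pow_zero, pow_zero, hone]
      | succ n ih => rw [pow_succ, pow_succ, hmul _ _ (isCls_pow hyc n) hyc, ih]
    have h6 : L y ^ Nat.card (IrrCharacter H) = 0 := by
      rw [← h5, ← mul_one (L (y ^ _)), ← hB1, ← hmul _ _ (isCls_pow hyc _) (isCls_idem _), h4,
        map_zero]
    have h7 : L y = 0 := by
      by_contra hne
      exact pow_ne_zero _ hne h6
    rw [hy, map_sub, map_smul, hone, smul_eq_mul, mul_one, sub_eq_zero] at h7
    exact h7

end Red

end Cfsg.Agent.H644
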