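import Mathlib
import Cfsg.Agent.H613.ContribVal
import Cfsg.Agent.H644.RootSum

/-!
# A bound for the number of characters of a block from one subsection

`u` is a `p`-element of `G`, `H = C_G(u)`, `b` a block of `H` inducing `B`.

* `form p b ξ η`: the (real) value `p ^ d(b) * rg p ξ η`;
* `comb b x`: the restriction to the `p`-regular elements of `∑ x ξ • ξ`;
* `le_sum_contr`: if the form is at least `μ` at all integer combinations with non-zero
  restriction to the `p`-regular elements, then the sum of `p ^ d(b) * contr p (u ^ k) b χ χ` over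
  the `k` prime to `p` is at least `φ (q) * μ`, unless it is zero;
* `card_mul_le`: the number of the `χ ∈ B` with `contr p u b χ χ ≠ 0` times `μ` is at most
  `p ^ d(b) * l (b)`.
-/

set_option autoImplicit false
set_option linter.unusedSectionVars false

open Cfsg
open scoped ComplexConjugate

namespace Cfsg.Agent.H644.SectionBound

open Cfsg.Agent.Blocks.Blau Cfsg.Agent.Blocks.Local Cfsg.Agent.Characters
open Cfsg.Agent.H613.RegGram Cfsg.Agent.H613.Contrib Cfsg.Agent.H613.ContribVal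
open Cfsg.Agent.H644.RootSum

section form

variable {H : Type*} [Group H] [Fintype H] {p : ℕ}

/-- The real value of the scaled Gram form. -/
noncomputable def form (p : ℕ) (b : Set (IrrCharacter H)) (ξ η : b) : ℝ :=
  ((p : ℂ) ^ blockDefect p b * rg p ((ξ : IrrCharacter H) : H → ℂ)
    ((η : IrrCharacter H) : H → ℂ)).re

theorem rg_real (ξ η : IrrCharacter H) :
    conj (rg p (ξ : H → ℂ) (η : H → ℂ)) = rg p (ξ : H → ℂ) (η : H → ℂ) := by
  rw [conj_rg, rg_comm p (Core.isIrr_isCharacter η.2) (Core.isIrr_isCharacter ξ.2)]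

theorem form_coe (b : Set (IrrCharacter H)) (ξ η : b) :
    ((form p b ξ η : ℝ) : ℂ) = (p : ℂ) ^ blockDefect p b *
      rg p ((ξ : IrrCharacter H) : H → ℂ) ((η : IrrCharacter H) : H → ℂ) := by
  unfold form
  refine Complex.conj_eq_iff_re.1 ?_
  rw [map_mul, rg_real, map_pow, Complex.conj_natCast]

theorem form_symm (b : Set (IrrCharacter H)) (ξ η : b) : form p b ξ η = form p b η ξ := by
  unfold form
  rw [rg_comm p (Core.isIrr_isCharacter ξ.1.2) (Core.isIrr_isCharacter η.1.2)]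

/-- The restriction to the `p`-regular elements of an integer combination. -/
noncomputable def comb (p : ℕ) (b : Set (IrrCharacter H)) [Fintype b] : (b → ℤ) →+ (H → ℂ) where
  toFun x := fun c => ∑ ξ : b, (x ξ : ℂ) * regPart p ((ξ : IrrCharacter H) : H → ℂ) c
  map_zero' := by funext c; simp
  map_add' x y := by
    funext c
    simp [add_mul, Finset.sum_add_distrib]

theorem comb_apply (b : Set (IrrCharacter H)) [Fintype b] (x : b → ℤ) (c : H) :
    comb p b x c = ∑ ξ : b, (x ξ : ℂ) * regPart p ((ξ : IrrCharacter H) : H → ℂ) c := rfl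

theorem comb_of_dvd (b : Set (IrrCharacter H)) [Fintype b] (x : b → ℤ) {c : H}
    (hc : p ∣ orderOf c) : comb p b x c = 0 := by
  rw [comb_apply]
  exact Finset.sum_eq_zero fun ξ _ => by rw [regPart_of_dvd hc, mul_zero]

theorem comb_of_not_dvd (b : Set (IrrCharacter H)) [Fintype b] (x : b → ℤ) {c : H}
    (hc : ¬ p ∣ orderOf c) :
    comb p b x c = ∑ ξ : b, (x ξ : ℂ) * ((ξ : IrrCharacter H) : H → ℂ) c := by
  rw [comb_apply]
  exact Finset.sum_congr rfl fun ξ _ => by rw [regPart_of_not_dvd hc]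

/-- The quadratic form is a sum of squares. -/
theorem bil_form_eq (b : Set (IrrCharacter H)) [Fintype b] (x : b → ℤ) :
    bil (form p b) x x = (p : ℝ) ^ blockDefect p b * (Nat.card H : ℝ)⁻¹ *
      ∑ c : H, ‖comb p b x c‖ ^ 2 := by
  classical
  apply Complex.ofReal_injective
  have h1 : ∀ c : H, ((‖comb p b x c‖ ^ 2 : ℝ) : ℂ) = ∑ ξ : b, ∑ η : b, (x ξ : ℂ) * (x η : ℂ) *
      (regPart p ((ξ : IrrCharacter H) : H → ℂ) c *
        conj (regPart p ((η : IrrCharacter H) : H → ℂ) c)) := by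
    intro c
    rw [← Complex.normSq_eq_norm_sq, ← Complex.mul_conj, comb_apply, map_sum, Finset.sum_mul_sum]
    refine Finset.sum_congr rfl fun ξ _ => Finset.sum_congr rfl fun η _ => ?_
    rw [map_mul, map_intCast]
    ring
  have h2 : ∀ ξ η : b, (Nat.card H : ℂ)⁻¹ * ∑ c : H,
      (regPart p ((ξ : IrrCharacter H) : H → ℂ) c *
        conj (regPart p ((η : IrrCharacter H) : H → ℂ) c)) =
      rg p ((ξ : IrrCharacter H) : H → ℂ) ((η : IrrCharacter H) : H → ℂ) := by
    intro ξ η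
    rw [rg_def, pair_eq_sum_filter, Finset.sum_filter]
    congr 1
    refine Finset.sum_congr rfl fun c _ => ?_
    by_cases hc : p ∣ orderOf c
    · rw [regPart_of_dvd hc, if_neg (not_not.2 hc), zero_mul]
    · rw [regPart_of_not_dvd hc, regPart_of_not_dvd hc, if_pos hc]
  unfold bil
  push_cast
  have h3 : ∑ c : H, ((‖comb p b x c‖ : ℂ)) ^ 2 = ∑ ξ : b, ∑ η : b, (x ξ : ℂ) * (x η : ℂ) *
      ∑ c : H, (regPart p ((ξ : IrrCharacter H) : H → ℂ) c *
        conj (regPart p ((η : IrrCharacter H) : H → ℂ) c)) := by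
    have h4 : ∀ c : H, ((‖comb p b x c‖ : ℂ)) ^ 2 = ((‖comb p b x c‖ ^ 2 : ℝ) : ℂ) := fun c => by
      push_cast; rfl
    simp only [h4, h1]
    rw [Finset.sum_comm]
    refine Finset.sum_congr rfl fun ξ _ => ?_
    rw [Finset.sum_comm]
    refine Finset.sum_congr rfl fun η _ => ?_
    rw [Finset.mul_sum]
  rw [h3, Finset.mul_sum]
  refine Finset.sum_congr rfl fun ξ _ => ?_
  rw [Finset.mul_sum]
  refine Finset.sum_congr rfl fun η _ => ?_
  rw [form_coe, ← h2]
  ring

theorem bil_form_nonneg (b : Set (IrrCharacter H)) [Fintype b] (x : b → ℤ) :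
    0 ≤ bil (form p b) x x := by
  rw [bil_form_eq]
  positivity

theorem bil_form_eq_zero_iff (hp : p.Prime) (b : Set (IrrCharacter H)) [Fintype b] (x : b → ℤ) :
    bil (form p b) x x = 0 ↔ comb p b x = 0 := by
  rw [bil_form_eq]
  have h1 : (p : ℝ) ^ blockDefect p b * (Nat.card H : ℝ)⁻¹ ≠ 0 := by
    have : (p : ℝ) ≠ 0 := by exact_mod_cast hp.ne_zero
    have h2 : (Nat.card H : ℝ) ≠ 0 := by exact_mod_cast Nat.card_pos.ne'
    positivity
  rw [mul_eq_zero, or_iff_right h1, Finset.sum_eq_zero_iff_of_nonneg (fun c _ => sq_nonneg _)]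
  constructor
  · intro h
    funext c
    have := h c (Finset.mem_univ _)
    simpa using this
  · intro h c _
    rw [h]
    simp

end form

section section_

variable {G : Type*} [Group G] [Finite G] {p : ℕ} [Fact p.Prime] {M : Ideal AlgInt}

theorem centralizer_pow {u : G} {q k : ℕ} (hu : u ^ q = 1) (hk : Nat.Coprime k q) :
    Subgroup.centralizer ({u} : Set G) = Subgroup.centralizer ({u ^ k} : Set G) := by
  have h1 : Nat.Coprime k (orderOf u) := hk.coprime_dvd_right (orderOf_dvd_of_pow_eq_one hu)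
  obtain ⟨m, hm⟩ := exists_pow_eq_self_of_coprime h1
  ext x
  rw [Subgroup.mem_centralizer_singleton_iff, Subgroup.mem_centralizer_singleton_iff]
  constructor
  · intro h
    have : Commute x u := h
    exact this.pow_right k
  · intro h
    have : Commute x (u ^ k) := h
    have h2 := this.pow_right m
    rw [hm] at h2
    exact h2

/-- The indices `k` prime to `p`. -/
def idx (p s : ℕ) : Finset ℕ := (Finset.range (p ^ (s + 1))).filter (fun k => ¬ p ∣ k)

theorem coprime_of_mem_idx {s k : ℕ} (hk : k ∈ idx p s) : Nat.Coprime k (p ^ (s + 1)) := by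
  have h1 := (Finset.mem_filter.1 hk).2
  exact Nat.Coprime.pow_right _ ((Nat.Prime.coprime_iff_not_dvd Fact.out).2 h1).symm

/-- The sum of the contributions over the generators, for one pair of characters. -/
theorem sum_contr_eq (hM : IsPModular p M) {u : G} {s : ℕ} {H : Subgroup G} [Fintype H]
    (hu : u ^ p ^ (s + 1) = 1) (hH : H = Subgroup.centralizer ({u} : Set G))
    [Fintype (IrrCharacter H)] {n : IrrCharacter G → IrrCharacter H → ℕ} {e : IrrCharacter H → ℂ}
    (hE : Exp u H (p ^ (s + 1)) n e) {b : Set (IrrCharacter H)} [Fintype b]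
    (hb : IsPBlock M b) (χ : IrrCharacter G) :
    ∑ k ∈ idx p s, (p : ℂ) ^ blockDefect p b * contr p (u ^ k) b (χ : G → ℂ) (χ : G → ℂ) =
      ∑ k ∈ idx p s, ∑ ξ : b, ∑ η : b, ((n χ ξ : ℤ) : ℂ) * ((n χ η : ℤ) : ℂ) *
        (e ξ * conj (e η)) ^ k * (form p b ξ η : ℂ) := by
  refine Finset.sum_congr rfl fun k hk => ?_
  rw [contr_eq_sum hM hE hb χ χ (hH.trans (centralizer_pow hu (coprime_of_mem_idx hk))),
    Finset.mul_sum]
  refine Finset.sum_congr rfl fun ξ _ => ?_
  rw [Finset.mul_sum]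
  refine Finset.sum_congr rfl fun η _ => ?_
  rw [form_coe]
  push_cast
  ring

theorem contr_self_nonneg (u : G) {H : Subgroup G} [Fintype H] (b : Set (IrrCharacter H))
    [Fintype b] (χ : G → ℂ) : 0 ≤ (contr p u b χ χ).re ∧ (contr p u b χ χ).im = 0 := by
  rw [contr_self_eq]
  refine ⟨?_, ?_⟩
  · rw [Complex.ofReal_re]; positivity
  · rw [Complex.ofReal_im]

theorem one_mem_idx {s : ℕ} : 1 ∈ idx p s := by
  have hp : p.Prime := Fact.out
  rw [idx, Finset.mem_filter, Finset.mem_range]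
  refine ⟨Nat.one_lt_pow (Nat.succ_ne_zero s) hp.one_lt, ?_⟩
  rw [Nat.dvd_one]
  exact hp.one_lt.ne'

theorem card_idx (s : ℕ) : ((idx p s).card : ℝ) = (p : ℝ) ^ s * ((p : ℝ) - 1) := by
  have hp : p.Prime := Fact.out
  have h := ramanujan hp s 1 (one_pow _)
  simp only [one_pow, if_true, Finset.sum_const, nsmul_eq_mul, mul_one] at h
  have h2 : ((idx p s).card : ℂ) = (p : ℂ) ^ s * ((p : ℂ) - 1) := by
    unfold idx
    rw [h]
    push_cast
    ring
  exact_mod_cast h2

/-- The lower bound for one character. -/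
theorem le_sum_contr (hM : IsPModular p M) {u : G} {s : ℕ} {H : Subgroup G} [Fintype H]
    (hu : u ^ p ^ (s + 1) = 1) (hH : H = Subgroup.centralizer ({u} : Set G))
    {b : Set (IrrCharacter H)} [Fintype b] (hb : IsPBlock M b) {μ : ℝ} (hμ : 0 ≤ μ)
    (hmin : ∀ x : b → ℤ, comb p b x ≠ 0 → μ ≤ bil (form p b) x x) (χ : IrrCharacter G)
    (hne : contr p u b (χ : G → ℂ) (χ : G → ℂ) ≠ 0) :
    ((idx p s).card : ℝ) * μ ≤
      ∑ k ∈ idx p s, (p : ℝ) ^ blockDefect p b *
        (contr p (u ^ k) b (χ : G → ℂ) (χ : G → ℂ)).re := by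
  have hp : p.Prime := Fact.out
  have := Core.finite_irr (G := H)
  have := Fintype.ofFinite (IrrCharacter H)
  obtain ⟨n, e, hE⟩ := exists_exp hH hu
  have h1 := sum_contr_eq hM hu hH hE hb χ
  have hre : (∑ k ∈ idx p s, (p : ℂ) ^ blockDefect p b *
      contr p (u ^ k) b (χ : G → ℂ) (χ : G → ℂ)).re =
      ∑ k ∈ idx p s, (p : ℝ) ^ blockDefect p b *
        (contr p (u ^ k) b (χ : G → ℂ) (χ : G → ℂ)).re := by
    rw [Complex.re_sum]
    refine Finset.sum_congr rfl fun k _ => ?_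
    have : ((p : ℂ) ^ blockDefect p b) = (((p : ℝ) ^ blockDefect p b : ℝ) : ℂ) := by
      push_cast; rfl
    rw [this, Complex.re_ofReal_mul]
  have hpos : 0 < (p : ℝ) ^ blockDefect p b := pow_pos (by exact_mod_cast hp.pos) _
  have hne' : ∑ k ∈ idx p s, (p : ℂ) ^ blockDefect p b *
      contr p (u ^ k) b (χ : G → ℂ) (χ : G → ℂ) ≠ 0 := by
    intro h0
    rw [h0, Complex.zero_re] at hre
    have h2 := (Finset.sum_eq_zero_iff_of_nonneg (fun k _ => mul_nonneg hpos.le
      (contr_self_nonneg (p := p) (u ^ k) b (χ : G → ℂ)).1)).1 hre.symm 1 one_mem_idx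
    rw [pow_one] at h2
    apply hne
    apply Complex.ext
    · exact (mul_eq_zero.1 h2).resolve_left hpos.ne'
    · exact (contr_self_nonneg (p := p) u b (χ : G → ℂ)).2
  rw [← hre, card_idx]
  exact le_root_sum hp s (form p b) (form_symm b) (comb p b) (bil_form_nonneg b)
    (bil_form_eq_zero_iff hp b) μ hμ hmin (fun ξ : b => (n χ ξ : ℤ)) (fun ξ : b => e ξ)
    (fun ξ => hE.root ξ) _ h1 hne'

/-- The bound for the number of characters. -/
theorem card_mul_le (hM : IsPModular p M) {u : G} {s : ℕ} {H : Subgroup G} [Fintype H]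
    (hu : u ^ p ^ (s + 1) = 1) (hH : H = Subgroup.centralizer ({u} : Set G))
    {b : Set (IrrCharacter H)} {B : Set (IrrCharacter G)}
    (hind : IsInducedBlock M H b B) {μ : ℝ} (hμ : 0 ≤ μ) [Fintype b]
    (hmin : ∀ x : b → ℤ, comb p b x ≠ 0 → μ ≤ bil (form p b) x x) (𝒞 : Set (IrrCharacter G))
    (h𝒞B : 𝒞 ⊆ B)
    (hne : ∀ χ ∈ 𝒞, contr p u b (χ : G → ℂ) (χ : G → ℂ) ≠ 0) :
    (Nat.card 𝒞 : ℝ) * μ ≤ (p : ℝ) ^ blockDefect p b * blockRank p b := by
  classical
  have hp : p.Prime := Fact.out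
  have := Core.finite_irr (G := G)
  have : Fintype B := Fintype.ofFinite _
  have : Fintype 𝒞 := Fintype.ofFinite _
  have := Fintype.ofFinite (IrrCharacter G)
  have hpos : 0 < (p : ℝ) ^ blockDefect p b := pow_pos (by exact_mod_cast hp.pos) _
  have hcard : 0 < ((idx p s).card : ℝ) := by
    have : 0 < (idx p s).card := Finset.card_pos.2 ⟨1, one_mem_idx⟩
    exact_mod_cast this
  -- traces
  have htr : ∀ k ∈ idx p s, ∑ χ : B, (contr p (u ^ k) b ((χ : IrrCharacter G) : G → ℂ)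
      ((χ : IrrCharacter G) : G → ℂ)).re = blockRank p b := by
    intro k hk
    have hord : ∃ m : ℕ, orderOf (u ^ k) = p ^ m := by
      have h1 : (u ^ k) ^ p ^ (s + 1) = 1 := by rw [← pow_mul, mul_comm, pow_mul, hu, one_pow]
      obtain ⟨m, -, hm⟩ := (Nat.dvd_prime_pow hp).1 (orderOf_dvd_of_pow_eq_one h1)
      exact ⟨m, hm⟩
    have h1 := sum_contr_self hM hord
      (hH.trans (centralizer_pow hu (coprime_of_mem_idx hk))) hind
    have h2 := congrArg Complex.re h1
    rw [Complex.re_sum, Complex.natCast_re] at h2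
    exact h2
  have h1 : (Nat.card 𝒞 : ℝ) * (((idx p s).card : ℝ) * μ) ≤
      ∑ χ : 𝒞, ∑ k ∈ idx p s, (p : ℝ) ^ blockDefect p b *
        (contr p (u ^ k) b ((χ : IrrCharacter G) : G → ℂ) ((χ : IrrCharacter G) : G → ℂ)).re := by
    calc (Nat.card 𝒞 : ℝ) * (((idx p s).card : ℝ) * μ)
        = ∑ χ : 𝒞, ((idx p s).card : ℝ) * μ := by
          rw [Finset.sum_const, Finset.card_univ, nsmul_eq_mul, Nat.card_eq_fintype_card]
      _ ≤ _ := Finset.sum_le_sum fun χ _ => le_sum_contr hM hu hH hind.1 hμ hmin χ.1 (hne χ χ.2)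
  have h2 : ∑ χ : 𝒞, ∑ k ∈ idx p s, (p : ℝ) ^ blockDefect p b *
        (contr p (u ^ k) b ((χ : IrrCharacter G) : G → ℂ) ((χ : IrrCharacter G) : G → ℂ)).re ≤
      ∑ χ : B, ∑ k ∈ idx p s, (p : ℝ) ^ blockDefect p b *
        (contr p (u ^ k) b ((χ : IrrCharacter G) : G → ℂ) ((χ : IrrCharacter G) : G → ℂ)).re := by
    let f : IrrCharacter G → ℝ := fun χ => ∑ k ∈ idx p s, (p : ℝ) ^ blockDefect p b *
        (contr p (u ^ k) b (χ : G → ℂ) (χ : G → ℂ)).re
    have hf : ∀ χ, 0 ≤ f χ := fun χ => Finset.sum_nonneg fun k _ => mul_nonneg hpos.le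
      (contr_self_nonneg (p := p) (u ^ k) b (χ : G → ℂ)).1
    have e1 : ∑ χ : 𝒞, f χ = ∑ χ ∈ Finset.univ.filter (· ∈ 𝒞), f χ :=
      (Finset.sum_subtype _ (by simp) _).symm
    have e2 : ∑ χ : B, f χ = ∑ χ ∈ Finset.univ.filter (· ∈ B), f χ :=
      (Finset.sum_subtype _ (by simp) _).symm
    show ∑ χ : 𝒞, f χ ≤ ∑ χ : B, f χ
    rw [e1, e2]
    refine Finset.sum_le_sum_of_subset_of_nonneg ?_ fun χ _ _ => hf χ
    intro χ hχ
    rw [Finset.mem_filter] at hχ ⊢
    exact ⟨hχ.1, h𝒞B hχ.2⟩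
  have h3 : ∑ χ : B, ∑ k ∈ idx p s, (p : ℝ) ^ blockDefect p b *
        (contr p (u ^ k) b ((χ : IrrCharacter G) : G → ℂ) ((χ : IrrCharacter G) : G → ℂ)).re =
      ((idx p s).card : ℝ) * ((p : ℝ) ^ blockDefect p b * blockRank p b) := by
    rw [Finset.sum_comm]
    calc _ = ∑ k ∈ idx p s, (p : ℝ) ^ blockDefect p b * (blockRank p b : ℝ) := by
          refine Finset.sum_congr rfl fun k hk => ?_
          rw [← Finset.mul_sum, htr k hk]
      _ = _ := by rw [Finset.sum_const, nsmul_eq_mul]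
  have h4 := (h1.trans h2).trans h3.le
  have h5 : ((idx p s).card : ℝ) * ((Nat.card 𝒞 : ℝ) * μ) ≤
      ((idx p s).card : ℝ) * ((p : ℝ) ^ blockDefect p b * blockRank p b) := by linarith
  exact le_of_mul_le_mul_left h5 hcard

end section_

end Cfsg.Agent.H644.SectionBound
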