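import Mathlib
import Cfsg.Agent.H644.CentralQuot
import Cfsg.Agent.H644.SectionBound
import Cfsg.Agent.H644.IntGram
import Cfsg.Agent.H648.HeightForm

/-!
# The minimum of the Gram form of a block

`b` is a block of `H` and `U` a central `p`-subgroup of `H`.

* `one_le_form`: the form is at least `1` at every vector of non-zero norm;
* `rank_le_form`: if the block of `H ⧸ U` corresponding to `b` has defect one, then the form is at
  least `l (b)` at every vector of non-zero norm.
-/

set_option autoImplicit false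
set_option linter.unusedSectionVars false

open Cfsg
open scoped ComplexConjugate Matrix

namespace Cfsg.Agent.H644.SmallMin

open Cfsg.Agent.Blocks.Blau Cfsg.Agent.Blocks.Local Cfsg.Agent.Characters
open Cfsg.Agent.H613.RegGram Cfsg.Agent.H613.Contrib
open Cfsg.Agent.H644.RootSum Cfsg.Agent.H644.SectionBound Cfsg.Agent.H644.CentralQuot

variable {H : Type*} [Group H] [Fintype H] {p : ℕ} [Fact p.Prime] {M : Ideal AlgInt}

theorem exists_int_form (hM : IsPModular p M) (b : Set (IrrCharacter H)) [Fintype b] :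
    ∃ m : b → b → ℤ, ∀ ξ η, form p b ξ η = m ξ η := by
  choose m hm using fun ξ η : b => exists_int_rg hM ξ.2 (η : IrrCharacter H)
  refine ⟨m, fun ξ η => ?_⟩
  apply Complex.ofReal_injective
  rw [form_coe, hm]
  push_cast
  rfl

theorem exists_int_bil (hM : IsPModular p M) (b : Set (IrrCharacter H)) [Fintype b] (x : b → ℤ) :
    ∃ k : ℤ, bil (form p b) x x = k := by
  obtain ⟨m, hm⟩ := exists_int_form hM b
  refine ⟨∑ ξ, ∑ η, x ξ * x η * m ξ η, ?_⟩
  unfold bil
  push_cast
  simp only [hm]

theorem bil_pos (b : Set (IrrCharacter H)) [Fintype b] {x : b → ℤ} (hx : comb p b x ≠ 0) :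
    0 < bil (form p b) x x :=
  lt_of_le_of_ne (bil_form_nonneg b x) fun h => hx ((bil_form_eq_zero_iff Fact.out b x).1 h.symm)

/-- The form is at least `1` at vectors of non-zero norm. -/
theorem one_le_form (hM : IsPModular p M) (b : Set (IrrCharacter H)) [Fintype b] {x : b → ℤ}
    (hx : comb p b x ≠ 0) : 1 ≤ bil (form p b) x x := by
  obtain ⟨k, hk⟩ := exists_int_bil hM b x
  have h1 := bil_pos b hx
  rw [hk] at h1 ⊢
  have h2 : (0 : ℤ) < k := by exact_mod_cast h1
  exact_mod_cast (show (1 : ℤ) ≤ k by omega)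

/-- Height zero is preserved by inflation. -/
theorem blockHeight_infl (hM : IsPModular p M) {U : Subgroup H} [U.Normal]
    (hU : U ≤ Subgroup.center H) {t : ℕ} (ht : Nat.card U = p ^ t) {b : Set (IrrCharacter H)}
    (hb : IsPBlock M b) {θ : IrrCharacter (H ⧸ U)} (hθ : θ ∈ defl U b) :
    blockHeight p b (infl U θ : H → ℂ) = blockHeight p (defl U b) (θ : H ⧸ U → ℂ) := by
  have hp : p.Prime := Fact.out
  have h1 := blockDefect_defl hM hU ht hb
  have h2 := defect_add_eq_add (p := p) hθ
  have h3 := defect_add_eq_add (p := p) (mem_defl.1 hθ)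
  rw [charDegree_infl] at h3
  have h4 : (Nat.card H).factorization p = (Nat.card (H ⧸ U)).factorization p + t := by
    rw [U.card_eq_card_quotient_mul_card_subgroup, ht,
      Nat.factorization_mul Nat.card_pos.ne' (pow_ne_zero _ hp.ne_zero), hp.factorization_pow]
    simp
  omega

/-- The form is at least `l (b)` at vectors of non-zero norm, if the block of the quotient has
defect one. -/
theorem rank_le_form (hM : IsPModular p M) {U : Subgroup H} [U.Normal]
    (hU : U ≤ Subgroup.center H) {t : ℕ} (ht : Nat.card U = p ^ t) {b : Set (IrrCharacter H)}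
    (hb : IsPBlock M b) [Fintype b] (hd : blockDefect p (defl U b) = 1) {x : b → ℤ}
    (hx : comb p b x ≠ 0) : (blockRank p b : ℝ) ≤ bil (form p b) x x := by
  classical
  have hp : p.Prime := Fact.out
  have hpr := isPrime_of_isPModular hM
  have hUp : IsPGroup p U := IsPGroup.of_card ht
  have := Fintype.ofFinite (H ⧸ U)
  have := Core.finite_irr (G := H ⧸ U)
  have : Fintype (defl U b) := Fintype.ofFinite _
  have hβ := isPBlock_defl hM hU hUp hb
  have hdb : blockDefect p b = 1 + t := by rw [← blockDefect_defl hM hU ht hb, hd]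
  have hp0 : (p : ℂ) ≠ 0 := by exact_mod_cast hp.ne_zero
  have hU0 : (Nat.card U : ℂ) = (p : ℂ) ^ t := by rw [ht]; push_cast; rfl
  -- integers
  choose k hk using fun (ξ : b) (θ : defl U b) => exists_int_rg hM ξ.2 (infl U θ)
  let A : Matrix (defl U b) (defl U b) ℤ := fun θ' θ => k ⟨infl U θ', θ'.2⟩ θ
  have hA : ∀ θ' θ : defl U b, (A θ' θ : ℂ) = (p : ℂ) ^ blockDefect p b *
      rg p (infl U θ' : H → ℂ) (infl U θ : H → ℂ) := fun θ' θ => (hk ⟨infl U θ', θ'.2⟩ θ).symm
  have hA' : ∀ θ' θ : defl U b, (A θ' θ : ℂ) = (p : ℂ) *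
      rg p (θ' : H ⧸ U → ℂ) (θ : H ⧸ U → ℂ) := by
    intro θ' θ
    rw [hA, rg_infl hU hUp, hU0, hdb, pow_add, pow_one, mul_assoc]
  -- symmetry
  have hsym : Aᵀ = A := by
    ext θ θ'
    have : ((A θ' θ : ℤ) : ℂ) = (A θ θ' : ℤ) := by
      rw [hA', hA', rg_comm p (Core.isIrr_isCharacter θ'.1.2) (Core.isIrr_isCharacter θ.1.2)]
    exact_mod_cast this
  -- idempotency
  have hAA : A * A = (p : ℤ) • A := by
    ext θ θ'
    have h1 := sum_rg_mul_rg (ψ := (θ' : IrrCharacter (H ⧸ U))) hM hβ θ.2
    have h2 : (((A * A) θ θ' : ℤ) : ℂ) = (((p : ℤ) • A) θ θ' : ℤ) := by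
      rw [Matrix.mul_apply, Matrix.smul_apply, smul_eq_mul]
      push_cast
      rw [hA', ← h1, Finset.mul_sum, Finset.mul_sum]
      refine Finset.sum_congr rfl fun η _ => ?_
      rw [hA', hA']
      ring
    exact_mod_cast h2
  -- a character of height zero
  obtain ⟨θ₀, hθ₀, h0⟩ := exists_blockHeight_eq_zero p (isPBlock_nonempty hM hβ)
  let z : defl U b := ⟨θ₀, hθ₀⟩
  have h0b : blockHeight p b (infl U θ₀ : H → ℂ) = 0 := by
    rw [blockHeight_infl hM hU ht hb hθ₀, h0]
  have hA00 : ¬ (p : ℤ) ∣ A z z := by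
    rw [← memLocalIdeal_intCast_iff hM, hA]
    exact not_memLocalIdeal_rg_self hM hb (mem_defl.1 hθ₀) h0b
  -- congruences
  have hcong : ∀ (ξ : b) (θ : defl U b), (p : ℤ) ∣ k ξ θ * A z z - k ξ z * A z θ := by
    intro ξ θ
    rw [← memLocalIdeal_intCast_iff hM]
    push_cast
    rw [← hk ξ θ, ← hk ξ z, hA, hA]
    have e1 := memLocalIdeal_rg_sub hM hb (mem_defl.1 hθ₀) h0b ξ.2 (mem_defl.1 θ.2)
    have e2 := memLocalIdeal_rg_sub hM hb (mem_defl.1 hθ₀) h0b ξ.2 (mem_defl.1 hθ₀)
    have e3 := memLocalIdeal_rg_sub hM hb (mem_defl.1 hθ₀) h0b (mem_defl.1 hθ₀) (mem_defl.1 θ.2)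
    have r1 : MemLocalRing M ((p : ℂ) ^ blockDefect p b *
        rg p (infl U θ₀ : H → ℂ) (infl U θ₀ : H → ℂ)) :=
      memLocalRing_pow_mul_rg hM (mem_defl.1 hθ₀) (Core.isIrr_isCharacter (infl U θ₀).2)
    have r2 : MemLocalRing M ((p : ℂ) ^ blockDefect p b *
        rg p (infl U θ₀ : H → ℂ) (infl U θ : H → ℂ)) :=
      memLocalRing_pow_mul_rg hM (mem_defl.1 hθ₀) (Core.isIrr_isCharacter (infl U θ).2)
    have d1 : MemLocalRing M (((ξ : IrrCharacter H) : H → ℂ) 1 / (infl U θ₀ : H → ℂ) 1) :=
      memLocalRing_degree_div hM h0b ξ.2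
    have hone : (infl U θ₀ : H → ℂ) 1 / (infl U θ₀ : H → ℂ) 1 = 1 :=
      div_self (apply_one_ne_zero (infl U θ₀))
    rw [hone] at e2 e3
    rw [mul_one] at e2 e3
    have s1 := memLocalIdeal_mul_right e1 r1
    have s2 := memLocalIdeal_mul_right e2 r2
    have s3 := memLocalIdeal_mul_right e3 (memLocalRing_mul r1 d1)
    have s4 := memLocalIdeal_sub (memLocalIdeal_sub s1 s2) s3
    convert s4 using 1
    ring
  -- the inverse of `A z z` modulo `p`
  obtain ⟨c, hc⟩ : ∃ c : ℤ, (p : ℤ) ∣ c * A z z - 1 := by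
    have hcop : IsCoprime (A z z) (p : ℤ) := by
      refine ((Nat.prime_iff_prime_int.1 hp).coprime_iff_not_dvd.2 hA00).symm
    obtain ⟨u, v, huv⟩ := hcop
    exact ⟨u, -v, by linear_combination huv⟩
  have hrank : ∀ θ θ' : defl U b, (p : ℤ) ∣ A θ θ' - c * A z θ * A z θ' := by
    intro θ θ'
    have e1 : (p : ℤ) ∣ A θ θ' * A z z - A θ z * A z θ' := hcong ⟨infl U θ, θ.2⟩ θ'
    have e2 : A θ z = A z θ := congrFun (congrFun hsym z) θ
    rw [e2] at e1
    have e3 : A θ θ' - c * A z θ * A z θ' =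
        c * (A θ θ' * A z z - A z θ * A z θ') - (c * A z z - 1) * A θ θ' := by ring
    rw [e3]
    exact dvd_sub (e1.mul_left _) (hc.mul_right _)
  -- no diagonal entry is `p`
  have hdiag : ∀ θ : defl U b, A θ θ ≠ p := by
    intro θ hθ
    have h1 : ∑ η, A θ η * A θ η = A θ θ * A θ θ := by
      have e1 := congrFun (congrFun hAA θ) θ
      rw [Matrix.mul_apply, Matrix.smul_apply, smul_eq_mul, hθ] at e1
      rw [hθ, ← e1]
      refine Finset.sum_congr rfl fun η _ => ?_
      have : A η θ = A θ η := congrFun (congrFun hsym θ) η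
      rw [this]
    have h2 : ∀ η, η ≠ θ → A θ η = 0 := by
      intro η hη
      have e1 := Finset.add_sum_erase Finset.univ (fun η => A θ η * A θ η) (Finset.mem_univ θ)
      have e2 : ∑ η ∈ Finset.univ.erase θ, A θ η * A θ η = 0 := by
        have e1' : A θ θ * A θ θ + ∑ η ∈ Finset.univ.erase θ, A θ η * A θ η =
          ∑ η, A θ η * A θ η := e1
        linarith
      have e3 := (Finset.sum_eq_zero_iff_of_nonneg (fun η _ => mul_self_nonneg _)).1 e2 η
        (Finset.mem_erase.2 ⟨hη, Finset.mem_univ _⟩)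
      exact mul_self_eq_zero.1 e3
    by_cases hz : z = θ
    · rw [hz] at hA00
      rw [hθ] at hA00
      exact hA00 dvd_rfl
    · have h3 := h2 z hz
      obtain ⟨n, hn, -, hn2⟩ := H648.HeightForm.exists_int_height hM hβ hθ₀ h0 θ.2
      apply hn2
      have h4 : (n : ℂ) = 0 := by
        rw [← hn, pRegularPart_eq_regPart, ← rg_eq_classInner, hd, pow_one]
        have := hA' z θ
        rw [show A z θ = A θ z from congrFun (congrFun hsym θ) z, h3] at this
        rw [← this]
        simp
      have h5 : n = 0 := by exact_mod_cast h4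
      rw [h5]
      exact dvd_zero _
  -- the trace
  have htrace : A.trace = p * (blockRank p b : ℕ) := by
    have h1 := sum_rg_self hM hβ
    rw [blockRank_defl hM hU hUp hb] at h1
    have h2 : ((A.trace : ℤ) : ℂ) = ((p * (blockRank p b : ℕ) : ℤ) : ℂ) := by
      rw [Matrix.trace]
      push_cast
      rw [← h1, Finset.mul_sum]
      exact Finset.sum_congr rfl fun θ _ => hA' θ θ
    exact_mod_cast h2
  -- the vector `w`
  let X : H → ℂ := fun g => ∑ ξ : b, (x ξ : ℂ) * ((ξ : IrrCharacter H) : H → ℂ) g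
  have hXsum : X = ∑ ξ : b, (x ξ : ℂ) • ((ξ : IrrCharacter H) : H → ℂ) := by
    funext g
    simp [X, Finset.sum_apply]
  have hXc : IsClassFunction H X := by
    intro g h
    simp only [X]
    exact Finset.sum_congr rfl fun ξ _ => by rw [Core.isIrr_isClassFunction ξ.1.2 g h]
  have hrgX : ∀ η : H → ℂ, rg p X η = ∑ ξ : b, (x ξ : ℂ) * rg p ((ξ : IrrCharacter H) : H → ℂ) η := by
    intro η
    rw [hXsum]
    exact H613.ContribVal.rg_sum_smul_left p η _ _ _
  let w : defl U b → ℤ := fun θ => ∑ ξ : b, x ξ * k ξ θ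
  have hw : ∀ θ : defl U b, (w θ : ℂ) = (p : ℂ) ^ blockDefect p b * rg p X (infl U θ : H → ℂ) := by
    intro θ
    rw [hrgX, Finset.mul_sum]
    simp only [w]
    push_cast
    refine Finset.sum_congr rfl fun ξ _ => ?_
    rw [← hk]
    ring
  have hbilX : ((bil (form p b) x x : ℝ) : ℂ) = (p : ℂ) ^ blockDefect p b * rg p X X := by
    have e1 : rg p X X = ∑ ξ : b, ∑ η : b, (x ξ : ℂ) * (x η : ℂ) *
        rg p ((ξ : IrrCharacter H) : H → ℂ) ((η : IrrCharacter H) : H → ℂ) := by
      rw [hrgX]
      refine Finset.sum_congr rfl fun ξ _ => ?_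
      rw [← conj_rg, hrgX, map_sum, Finset.mul_sum]
      refine Finset.sum_congr rfl fun η _ => ?_
      rw [map_mul, conj_rg, map_intCast]
      ring
    rw [e1, Finset.mul_sum]
    unfold bil
    push_cast
    refine Finset.sum_congr rfl fun ξ _ => ?_
    rw [Finset.mul_sum]
    refine Finset.sum_congr rfl fun η _ => ?_
    rw [form_coe]
    ring
  have hXb : ∀ ξ : IrrCharacter H, ξ ∉ b → rg p X (ξ : H → ℂ) = 0 := by
    intro ξ hξ
    rw [hrgX]
    exact Finset.sum_eq_zero fun η _ => by rw [rg_eq_zero hM hb η.2 hξ, mul_zero]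
  -- `w` is an eigenvector
  have hAw : A.mulVec w = (p : ℤ) • w := by
    funext θ
    have h1 := sum_rg_push hU hUp (b := b) hXc (Core.isIrr_isClassFunction (infl U θ).2) hXb
    have h2 : (((A.mulVec w) θ : ℤ) : ℂ) = (((p : ℤ) • w) θ : ℤ) := by
      rw [Matrix.mulVec, dotProduct, Pi.smul_apply, smul_eq_mul]
      push_cast
      rw [hw]
      calc ∑ η : defl U b, (A θ η : ℂ) * (w η : ℂ)
          = ((p : ℂ) ^ blockDefect p b) ^ 2 * ∑ η : defl U b,
              rg p X (infl U η : H → ℂ) * rg p (infl U η : H → ℂ) (infl U θ : H → ℂ) := by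
            rw [Finset.mul_sum]
            refine Finset.sum_congr rfl fun η _ => ?_
            rw [hA, hw, rg_comm p (Core.isIrr_isCharacter (infl U θ).2)
              (Core.isIrr_isCharacter (infl U η).2)]
            ring
        _ = _ := by
            rw [h1, hU0, hdb]
            field_simp
            ring
    exact_mod_cast h2
  -- the norm of `w`
  have hnorm : (p : ℝ) * bil (form p b) x x = ((w ⬝ᵥ w : ℤ) : ℝ) := by
    have h1 := sum_rg_push hU hUp (b := b) hXc hXc hXb
    apply Complex.ofReal_injective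
    rw [Complex.ofReal_mul, hbilX, dotProduct]
    push_cast
    have h2 : ∑ θ : defl U b, (w θ : ℂ) * (w θ : ℂ) = ((p : ℂ) ^ blockDefect p b) ^ 2 *
        ∑ θ : defl U b, rg p X (infl U θ : H → ℂ) * rg p (infl U θ : H → ℂ) X := by
      rw [Finset.mul_sum]
      refine Finset.sum_congr rfl fun θ _ => ?_
      have e1 : (p : ℂ) ^ blockDefect p b * rg p (infl U θ : H → ℂ) X = w θ := by
        have := congrArg conj (hw θ)
        rw [map_mul, conj_rg, map_pow, Complex.conj_natCast, map_intCast] at this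
        exact this.symm
      calc (w θ : ℂ) * (w θ : ℂ) = ((p : ℂ) ^ blockDefect p b * rg p X (infl U θ : H → ℂ)) *
            ((p : ℂ) ^ blockDefect p b * rg p (infl U θ : H → ℂ) X) := by rw [e1, ← hw]
        _ = _ := by ring
    rw [h2, h1, hU0, hdb]
    field_simp
    ring
  -- the preimage of `w`
  have hwz : ∀ θ : defl U b, (p : ℤ) ∣ w θ - (c * w z) * A z θ := by
    intro θ
    have e1 : (p : ℤ) ∣ w θ * A z z - w z * A z θ := by
      simp only [w, Finset.sum_mul, ← Finset.sum_sub_distrib]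
      refine Finset.dvd_sum fun ξ _ => ?_
      have := (hcong ξ θ).mul_left (x ξ)
      convert this using 1
      ring
    have e3 : w θ - (c * w z) * A z θ =
        c * (w θ * A z z - w z * A z θ) - (c * A z z - 1) * w θ := by ring
    rw [e3]
    exact dvd_sub (e1.mul_left _) (hc.mul_right _)
  choose w' hw' using hwz
  let y : defl U b → ℤ := fun θ => w' θ + if θ = z then c * w z else 0
  have hcol : A.mulVec (fun θ => if θ = z then c * w z else 0) = fun θ => (c * w z) * A z θ := by
    funext θ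
    rw [Matrix.mulVec, dotProduct, Finset.sum_eq_single z]
    · rw [if_pos rfl, show A θ z = A z θ from congrFun (congrFun hsym z) θ]
      ring
    · intro η _ hη
      rw [if_neg hη, mul_zero]
    · intro h
      exact absurd (Finset.mem_univ _) h
  have hAw' : A.mulVec w' = fun θ => w θ - (c * w z) * A z θ := by
    have hp0' : (p : ℤ) ≠ 0 := by exact_mod_cast hp.ne_zero
    have e1 : A.mulVec ((p : ℤ) • w') = (p : ℤ) • fun θ => w θ - (c * w z) * A z θ := by
      have e2 : (p : ℤ) • w' = w - (c * w z) • (fun θ => A z θ) := by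
        funext θ
        simp only [Pi.smul_apply, Pi.sub_apply, smul_eq_mul]
        exact (hw' θ).symm
      have e3 : A.mulVec (fun θ => A z θ) = (p : ℤ) • fun θ => A z θ := by
        funext θ
        have := congrFun (congrFun hAA θ) z
        rw [Matrix.mul_apply, Matrix.smul_apply, smul_eq_mul,
          show A θ z = A z θ from congrFun (congrFun hsym z) θ] at this
        rw [Pi.smul_apply, smul_eq_mul, ← this, Matrix.mulVec, dotProduct]
        refine Finset.sum_congr rfl fun η _ => ?_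
        rw [show A z η = A η z from congrFun (congrFun hsym η) z]
      rw [e2, Matrix.mulVec_sub, Matrix.mulVec_smul, e3, hAw]
      funext θ
      simp only [Pi.smul_apply, Pi.sub_apply, smul_eq_mul]
      ring
    rw [Matrix.mulVec_smul] at e1
    funext θ
    have := congrFun e1 θ
    simp only [Pi.smul_apply, smul_eq_mul] at this
    exact mul_left_cancel₀ hp0' this
  have hAy : A.mulVec y = w := by
    have : y = w' + fun θ => if θ = z then c * w z else 0 := rfl
    rw [this, Matrix.mulVec_add, hAw', hcol]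
    funext θ
    simp
  have hpos := bil_pos b hx
  have hppos : (0 : ℝ) < p := by exact_mod_cast hp.pos
  have hw0 : w ≠ 0 := by
    intro h
    rw [h] at hnorm
    simp at hnorm
    rcases hnorm with h | h
    · exact hppos.ne' (by exact_mod_cast h)
    · exact hpos.ne' h
  have key := IntGram.le_quad p hp.pos A hsym hAA c (fun θ => A z θ) hrank hdiag (blockRank p b)
    htrace y (by rw [hAy]; exact hw0)
  rw [hAy] at key
  -- comparison
  have hyw : (p : ℤ) * (y ⬝ᵥ w) = w ⬝ᵥ w := by
    calc (p : ℤ) * (y ⬝ᵥ w) = y ⬝ᵥ ((p : ℤ) • w) := by rw [dotProduct_smul, smul_eq_mul]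
      _ = y ⬝ᵥ A.mulVec w := by rw [hAw]
      _ = (Matrix.vecMul y A) ⬝ᵥ w := by rw [Matrix.dotProduct_mulVec]
      _ = w ⬝ᵥ w := by rw [← hsym, Matrix.vecMul_transpose, hAy]
  have h1 : (p : ℝ) * bil (form p b) x x = (p : ℝ) * ((y ⬝ᵥ w : ℤ) : ℝ) := by
    rw [hnorm, ← hyw]
    push_cast
    ring
  rw [mul_left_cancel₀ hppos.ne' h1]
  exact_mod_cast key

end Cfsg.Agent.H644.SmallMin
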