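import Mathlib
import Cfsg.Agent.S4733
import Cfsg.Agent.H658.Major
import Cfsg.Agent.H658.MajorVal
import Cfsg.Agent.H644.HeightBound

/-!
# The number of characters in a block

* `exists_major_prime`: a block of positive defect has a major subsection of order `p`;
* `card_le_of_defect_one`, `card_le_of_defect_two`: `k (B) ≤ p ^ d` for `d ≤ 2`;
* `card_le`: `k (B) ≤ p ^ (2 d - 2)` for `d ≥ 2`.
-/

set_option autoImplicit false
set_option linter.unusedSectionVars false

open Cfsg
open scoped ComplexConjugate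

namespace Cfsg.Agent.H644.BrauerFeit

open Cfsg.Agent.Blocks.Blau Cfsg.Agent.Blocks.Local Cfsg.Agent.Characters
open Cfsg.Agent.H613.RegGram Cfsg.Agent.H613.Contrib Cfsg.Agent.H613.ContribVal
open Cfsg.Agent.H644.RootSum Cfsg.Agent.H644.SectionBound Cfsg.Agent.H644.CentralQuot
open Cfsg.Agent.H644.SmallMin Cfsg.Agent.H644.HeightBound

variable {G : Type*} [Group G] [Finite G] {p : ℕ} [Fact p.Prime] {M : Ideal AlgInt}

/-- The rank of a block is positive. -/
theorem blockRank_pos (hM : IsPModular p M) {B : Set (IrrCharacter G)} (hB : IsPBlock M B) :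
    0 < blockRank p B := by
  have := isPrime_of_isPModular hM
  obtain ⟨χ, hχ⟩ := Cfsg.Agent.Blocks.Basic.isPBlock_nonempty hB
  unfold blockRank
  have := Core.finite_irr (G := G)
  have : FiniteDimensional ℂ (Submodule.span ℂ
      ((fun χ : IrrCharacter G => pRegularPart p (χ : G → ℂ)) '' B)) :=
    FiniteDimensional.span_of_finite ℂ ((Set.toFinite B).image _)
  rw [Module.finrank_pos_iff_exists_ne_zero]
  refine ⟨⟨_, Submodule.subset_span ⟨χ, hχ, rfl⟩⟩, ?_⟩
  intro h
  have h1 := congrFun (congrArg Subtype.val h) (1 : G)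
  have h2 : IsPRegular p (1 : G) := by
    unfold IsPRegular
    rw [orderOf_one]
    exact fun h => (Fact.out : p.Prime).one_lt.ne' (Nat.dvd_one.1 h)
  have h3 : pRegularPart p (χ : G → ℂ) 1 = (χ : G → ℂ) 1 := by
    unfold pRegularPart
    rw [if_pos h2]
  have h4 : (χ : G → ℂ) 1 = 0 := h3.symm.trans h1
  exact Blocks.Blau.apply_one_ne_zero χ h4

/-- A block of positive defect has a major subsection whose element has order `p`. -/
theorem exists_major_prime (hM : IsPModular p M) {B : Set (IrrCharacter G)} (hB : IsPBlock M B)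
    (hd : blockDefect p B ≠ 0) :
    ∃ (u : G) (f : Set (IrrCharacter (Subgroup.centralizer ({u} : Set G)))), orderOf u = p ∧
      IsInducedBlock M (Subgroup.centralizer ({u} : Set G)) f B ∧
      blockDefect p f = blockDefect p B := by
  have hp : p.Prime := Fact.out
  have := isPrime_of_isPModular hM
  obtain ⟨D, hD⟩ := H644.exists_isDefectGroup hM hB
  have hcard := Cfsg.Agent.S0908.result p M hM B hB D hD
  have hDp : IsPGroup p D := IsPGroup.of_card hcard
  have hnt : Nontrivial D := by
    rw [← Finite.one_lt_card_iff_nontrivial, hcard]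
    exact Nat.one_lt_pow hd hp.one_lt
  have hc : Nontrivial (Subgroup.center D) := hDp.center_nontrivial
  have hcp : IsPGroup p (Subgroup.center D) := hDp.to_subgroup _
  obtain ⟨n, hn, hcn⟩ := hcp.nontrivial_iff_card.1 hc
  have hdvd : p ∣ Nat.card (Subgroup.center D) := by
    rw [hcn]
    exact dvd_pow_self p hn.ne'
  obtain ⟨x, hx⟩ := exists_prime_orderOf_dvd_card' p hdvd
  obtain ⟨⟨b, hb, hbB⟩, -⟩ := Cfsg.Agent.S0973.result p M hM B hB D hD
  have hzc : ∀ w ∈ D, ((x : D) : G) * w = w * ((x : D) : G) := by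
    intro w hw
    have h1 := Subgroup.mem_center_iff.1 x.2 ⟨w, hw⟩
    have h2 := congrArg (Subtype.val) h1
    simpa using h2.symm
  obtain ⟨f, -, hf2, -, hf4⟩ := Cfsg.Agent.H658.exists_major hM hD (x : D).2 hzc hbB
  refine ⟨((x : D) : G), f, ?_, hf2, hf4⟩
  rw [Subgroup.orderOf_coe, Subgroup.orderOf_coe]
  exact hx

/-- The central subgroup generated by `u` in its centralizer. -/
def cen (u : G) : Subgroup (Subgroup.centralizer ({u} : Set G)) :=
  Subgroup.zpowers ⟨u, Subgroup.mem_centralizer_singleton_iff.2 rfl⟩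

theorem cen_le (u : G) : cen u ≤ Subgroup.center (Subgroup.centralizer ({u} : Set G)) := by
  rw [cen, Subgroup.zpowers_le, Subgroup.mem_center_iff]
  intro g
  apply Subtype.ext
  exact Subgroup.mem_centralizer_singleton_iff.1 g.2

theorem card_cen {u : G} (hu : orderOf u = p) : Nat.card (cen u) = p ^ 1 := by
  rw [cen, Nat.card_zpowers, ← Subgroup.orderOf_coe, pow_one]
  exact hu

instance cen_normal (u : G) : (cen u).Normal :=
  ⟨fun n hn g => by
    have h1 := Subgroup.mem_center_iff.1 (cen_le u hn) g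
    rw [h1, mul_assoc, mul_inv_cancel, mul_one]
    exact hn⟩

/-- The defect of the dominated block. -/
theorem defect_defl (hM : IsPModular p M) {u : G} (hu : orderOf u = p)
    {f : Set (IrrCharacter (Subgroup.centralizer ({u} : Set G)))} (hf : IsPBlock M f) :
    blockDefect p (defl (cen u) f) + 1 = blockDefect p f := by
  have := Fintype.ofFinite (Subgroup.centralizer ({u} : Set G))
  exact blockDefect_defl hM (cen_le u) (card_cen hu) hf

theorem isPBlock_cen (hM : IsPModular p M) {u : G} (hu : orderOf u = p)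
    {f : Set (IrrCharacter (Subgroup.centralizer ({u} : Set G)))} (hf : IsPBlock M f) :
    IsPBlock M (defl (cen u) f) := by
  have := Fintype.ofFinite (Subgroup.centralizer ({u} : Set G))
  exact isPBlock_defl hM (cen_le u) (IsPGroup.of_card (card_cen hu)) hf

theorem exists_pow {u : G} (hu : orderOf u = p) : ∃ k : ℕ, orderOf u = p ^ k := ⟨1, by simpa⟩

/-- Blocks of defect one have at most `p` characters. -/
theorem card_le_of_defect_one (hM : IsPModular p M) {B : Set (IrrCharacter G)}
    (hB : IsPBlock M B) (hd : blockDefect p B = 1) : Nat.card B ≤ p := by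
  classical
  have hp : p.Prime := Fact.out
  have := Fintype.ofFinite G
  obtain ⟨u, f, hu, hf, hfd⟩ := exists_major_prime hM hB (by omega)
  have := Core.finite_irr (G := Subgroup.centralizer ({u} : Set G))
  have : Fintype f := Fintype.ofFinite _
  have : Fintype (Subgroup.centralizer ({u} : Set G)) := Fintype.ofFinite _
  have h1 := defect_defl hM hu hf.1
  have h2 := (Cfsg.Agent.S4733.result p M hM _ (isPBlock_cen hM hu hf.1)).2.1.1 (by omega)
  have h3 := blockRank_defl hM (cen_le u) (IsPGroup.of_card (card_cen hu)) hf.1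
  have hup : u ^ p ^ (0 + 1) = 1 := by
    rw [zero_add, pow_one, ← hu]; exact pow_orderOf_eq_one u
  have h4 := card_mul_le hM hup rfl hf (μ := 1) zero_le_one (fun x hx => one_le_form hM f hx) B
    le_rfl (fun χ hχ => Cfsg.Agent.H658.contr_self_ne_zero hM (exists_pow hu) rfl hf hfd hχ)
  rw [mul_one, hfd, hd, pow_one, ← h3, h2.2, Nat.cast_one, mul_one] at h4
  exact_mod_cast h4

/-- Blocks of defect two have at most `p ^ 2` characters. -/
theorem card_le_of_defect_two (hM : IsPModular p M) {B : Set (IrrCharacter G)}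
    (hB : IsPBlock M B) (hd : blockDefect p B = 2) : Nat.card B ≤ p ^ 2 := by
  classical
  have hp : p.Prime := Fact.out
  have := Fintype.ofFinite G
  obtain ⟨u, f, hu, hf, hfd⟩ := exists_major_prime hM hB (by omega)
  have := Core.finite_irr (G := Subgroup.centralizer ({u} : Set G))
  have : Fintype f := Fintype.ofFinite _
  have : Fintype (Subgroup.centralizer ({u} : Set G)) := Fintype.ofFinite _
  have h1 := defect_defl hM hu hf.1
  have hup : u ^ p ^ (0 + 1) = 1 := by
    rw [zero_add, pow_one, ← hu]; exact pow_orderOf_eq_one u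
  have h4 := card_mul_le hM hup rfl hf (μ := blockRank p f) (Nat.cast_nonneg _)
    (fun x hx => rank_le_form hM (cen_le u) (card_cen hu) hf.1 (by omega) hx) B
    le_rfl (fun χ hχ => Cfsg.Agent.H658.contr_self_ne_zero hM (exists_pow hu) rfl hf hfd hχ)
  have h5 : (0 : ℝ) < blockRank p f := by
    have := blockRank_pos (p := p) hM hf.1
    exact_mod_cast this
  have h6 := le_of_mul_le_mul_right h4 h5
  rw [hfd, hd] at h6
  exact_mod_cast h6

open scoped Classical in
/-- Counting by heights. -/
theorem exists_count (p : ℕ) [Fact p.Prime] (B : Set (IrrCharacter G)) :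
    ∃ k₀ k₁ : ℕ,
      Nat.card {χ : IrrCharacter G // χ ∈ B ∧ blockHeight p B (χ : G → ℂ) = 0} = k₀ ∧
      Nat.card {χ : IrrCharacter G // χ ∈ B ∧ blockHeight p B (χ : G → ℂ) ≠ 0} = k₁ ∧
      Nat.card B = k₀ + k₁ ∧
      k₀ + p ^ 2 * k₁ ≤ ∑ᶠ ψ ∈ B, p ^ (2 * blockHeight p B (ψ : G → ℂ)) := by
  have := Core.finite_irr (G := G)
  have := Fintype.ofFinite (IrrCharacter G)
  have hp : p.Prime := Fact.out
  refine ⟨_, _, rfl, rfl, ?_, ?_⟩
  · have h1 : Nat.card B = B.toFinset.card := by
      rw [Nat.card_eq_fintype_card, Set.toFinset_card]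
    rw [h1, Nat.card_eq_fintype_card, Nat.card_eq_fintype_card,
      Fintype.card_subtype, Fintype.card_subtype]
    rw [← Finset.card_filter_add_card_filter_not (s := B.toFinset)
      (fun χ : IrrCharacter G => blockHeight p B (χ : G → ℂ) = 0)]
    congr 1
    · congr 1
      ext χ; simp
    · congr 1
      ext χ; simp
  · rw [Nat.card_eq_fintype_card, Nat.card_eq_fintype_card, Fintype.card_subtype,
      Fintype.card_subtype, finsum_mem_eq_toFinset_sum,
      ← Finset.sum_filter_add_sum_filter_not B.toFinset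
      (fun χ : IrrCharacter G => blockHeight p B (χ : G → ℂ) = 0)]
    refine add_le_add ?_ ?_
    · rw [Finset.card_eq_sum_ones]
      refine le_of_eq (Finset.sum_congr (by ext χ; simp) fun χ hχ => ?_)
      rw [(Finset.mem_filter.1 hχ).2, mul_zero, pow_zero]
    · rw [mul_comm, ← smul_eq_mul, ← Finset.sum_const]
      have h2 : (Finset.univ.filter fun χ : IrrCharacter G =>
          χ ∈ B ∧ blockHeight p B (χ : G → ℂ) ≠ 0) =
          B.toFinset.filter fun χ : IrrCharacter G => ¬ blockHeight p B (χ : G → ℂ) = 0 := by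
        ext χ; simp
      rw [h2]
      refine Finset.sum_le_sum fun χ hχ => ?_
      refine Nat.pow_le_pow_right hp.pos ?_
      have := (Finset.mem_filter.1 hχ).2
      omega

/-- The arithmetic of the bound. -/
theorem arith {p T k₀ k₁ : ℕ} (hp : 2 ≤ p) (h1 : k₀ * (k₀ + p ^ 2 * k₁) ≤ T ^ 4)
    (h2 : 4 * (k₀ + p ^ 2 * k₁) ≤ p ^ 2 * T ^ 2 + 4) : k₀ + k₁ ≤ T ^ 2 := by
  by_contra h
  push Not at h
  have hp2 : 4 ≤ p ^ 2 := by nlinarith
  set P := p ^ 2 with hP
  set S := T ^ 2 with hS
  have hT4 : T ^ 4 = S * S := by rw [hS]; ring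
  rw [hT4] at h1
  -- `(P - 1) k₁ ≤ (P - 2) (k₀ + k₁)`
  have h3 : P * k₁ + 2 * (k₀ + k₁) ≤ P * (k₀ + k₁) + k₁ := by
    zify at *
    nlinarith
  have h4 : (k₀ + k₁) * (k₀ + k₁) ≤ k₀ * (k₀ + P * k₁) := by
    have h5 : k₁ * (P * k₁ + 2 * (k₀ + k₁)) ≤ k₁ * (P * (k₀ + k₁) + k₁) :=
      Nat.mul_le_mul_left _ h3
    zify at *
    nlinarith
  have h6 : S * S < (k₀ + k₁) * (k₀ + k₁) := Nat.mul_self_lt_mul_self h
  omega

universe v

/-- The bound for the number of characters in a block of defect at least two. -/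
theorem card_le (p : ℕ) [Fact p.Prime] (M : Ideal AlgInt) (hM : IsPModular p M) (d : ℕ) :
    2 ≤ d → ∀ (G : Type v) [Group G] [Finite G] (B : Set (IrrCharacter G)), IsPBlock M B →
      blockDefect p B = d → Nat.card B ≤ p ^ (2 * d - 2) := by
  induction d with
  | zero => intro h; omega
  | succ d ih =>
    intro hd G _ _ B hB hBd
    have hp : p.Prime := Fact.out
    rcases Nat.lt_or_ge d 2 with hd2 | hd2
    · have h1 := card_le_of_defect_two hM hB (by omega)
      have h2 : 2 * (d + 1) - 2 = 2 := by omega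
      rw [h2]
      exact h1
    · have := Fintype.ofFinite G
      obtain ⟨u, f, hu, hf, hfd⟩ := exists_major_prime hM hB (by omega)
      have : Fintype (Subgroup.centralizer ({u} : Set G)) := Fintype.ofFinite _
      have h1 := defect_defl hM hu hf.1
      have h2 := (Cfsg.Agent.S4733.result p M hM _ (isPBlock_cen hM hu hf.1)).1
      have h3 := blockRank_defl hM (cen_le u) (IsPGroup.of_card (card_cen hu)) hf.1
      have h4 := ih hd2 _ _ (isPBlock_cen hM hu hf.1) (by omega)
      obtain ⟨k₀, k₁, hk₀, hk₁, hk, hs⟩ := exists_count p B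
      have hup : u ^ p = 1 := by
        conv_lhs => rw [← hu]
        exact pow_orderOf_eq_one u
      have h5 := height_bound hM hup rfl hf hfd hk₀ hk₁
      have h6 := Cfsg.Agent.H648.HeightForm.brauer_feit hM hB
      have h7 : blockRank p f ≤ p ^ (2 * d - 2) := by
        rw [← h3]
        exact h2.trans h4
      have hT : p ^ (2 * (d + 1) - 2) = (p ^ d) ^ 2 := by
        rw [← pow_mul]; congr 1; omega
      rw [hk, hT]
      refine arith hp.two_le (h5.trans ?_) ?_
      · rw [hBd]
        refine (Nat.mul_le_mul_left _ h7).trans (le_of_eq ?_)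
        rw [← pow_add, ← pow_mul]
        congr 1
        omega
      · rw [hBd] at h6
        have h8 : p ^ (2 * (d + 1)) = p ^ 2 * (p ^ d) ^ 2 := by
          rw [← pow_mul, ← pow_add]; congr 1; omega
        rw [h8] at h6
        omega

end Cfsg.Agent.H644.BrauerFeit
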